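import Groth.Agent.L08.SmallNorm.Main
import Groth.Agent.L08.AffHull.Smooth
import Groth.Agent.L08.Centre.Rigid
import Groth.Agent.L08.NormalQuot.Affine
import Groth.Agent.L08.Cube.MulSurj
import Groth.Agent.L08.FlatHom
import Groth.Agent.L08.IsogenyFibres
import Groth.Agent.L00.EquidimFlat
import Groth.Agent.L26.AV.Isogeny
import Groth.Agent.L26.AV.SmoothField
import Groth.Agent.S7983

/-!
# Powers on anti-affine groups are isogenies
-/

set_option autoImplicit false
set_option backward.isDefEq.respectTransparency.types false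
set_option linter.style.haveILetI false
set_option linter.unusedSectionVars false

universe u

open CategoryTheory CategoryTheory.Limits MonoidalCategory CartesianMonoidalCategory MonObj AlgebraicGeometry

noncomputable section

namespace Groth.L08.SmallNorm

variable {k : Type u} [Field k]

theorem isCommMonObj_of_antiAffine (G : Over (Spec (CommRingCat.of k))) [GrpObj G] [LocallyOfFiniteType G.hom]
    [QuasiCompact G.hom] (hO : IsIso G.hom.appTop) : IsCommMonObj G := by
  haveI := AffHull.connectedSpace_of_antiAffine G hO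
  have h := Centre.central (G := G) (ConcreteCategory.bijective_of_isIso G.hom.appTop).2 (𝟙 G)
  rw [Category.comp_id] at h
  constructor
  calc (β_ G G).hom ≫ μ[G] = snd G G * fst G G := by
        rw [Hom.mul_def]; congr 1
    _ = fst G G * snd G G := h.symm
    _ = μ[G] := by rw [Hom.mul_def, lift_fst_snd, Category.id_comp]

theorem antiAff_pow_surjective (G : Over (Spec (CommRingCat.of k))) [GrpObj G] [Smooth G.hom] [QuasiCompact G.hom]
    (hO : IsIso G.hom.appTop) (n : ℕ) (hn : 1 ≤ n) : Surjective (𝟙 G ^ n).left := by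
  haveI := isCommMonObj_of_antiAffine G hO
  haveI := AffHull.connectedSpace_of_antiAffine G hO
  obtain ⟨N, gN, i, A, gA, α, _, _, -, hNa, -, _, _, _, _, hker, -⟩ := exists_smallest G
  haveI := hNa
  haveI : LocallyOfFiniteType A.hom := inferInstance
  haveI : QuasiCompact A.hom := inferInstance
  obtain ⟨-, hsm, hcn⟩ := Groth.Agent.S7983.result k G A α
  haveI := hsm inferInstance
  haveI := hcn inferInstance
  haveI : GeometricallyReduced A.hom := Groth.Agent.AV.geometricallyReduced_of_smooth A.hom
  haveI : GeometricallyIntegral A.hom := Groth.Agent.AV.geometricallyIntegral_of_connected A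
  haveI : Surjective (𝟙 A ^ n).left := Groth.L08.Cube.surjective_pow (A := A) hn
  haveI : IsMonHom (𝟙 G ^ n : G ⟶ G) := Groth.Agent.AV.Isogeny.isMonHom_pow n
  obtain ⟨C, gC, p, j, _, _, hpj, _, _, _, _⟩ := Groth.L08.AbelianGrp.exists_image (𝟙 G ^ n : G ⟶ G)
  obtain ⟨Q, gQ, π, _, _, _, _, _, _, _, hkerπ⟩ := Groth.L08.AbelianGrp.exists_quotient j
  have hαn : (p ≫ j) ≫ α = α ≫ (𝟙 A ^ n) := by
    rw [hpj, MonObj.pow_comp, MonObj.comp_pow, Category.id_comp, Category.comp_id]
  haveI : Surjective (j ≫ α).left := by
    haveI : Surjective (p.left ≫ (j ≫ α).left) := by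
      rw [← Over.comp_left, ← Category.assoc, hαn, Over.comp_left]; infer_instance
    exact Surjective.of_comp p.left (j ≫ α).left
  let P := pullback α (j ≫ α)
  haveI : Surjective (pullback.fst α (j ≫ α)).left :=
    MorphismProperty.of_isPullback (P := @Surjective)
      ((IsPullback.of_hasPullback α (j ≫ α)).map (Over.forget _)).flip ‹_›
  obtain ⟨z, hz, -⟩ := hker.exists_lift (pullback.fst α (j ≫ α) * (pullback.snd α (j ≫ α) ≫ j)⁻¹) (toUnit P) (by
    rw [MonObj.mul_comp, GrpObj.inv_comp, pullback.condition, Category.assoc, mul_inv_cancel, Hom.one_def])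
  have hjπ : j ≫ π = 1 := by rw [hkerπ.w, Hom.one_def]
  have hzπ : z ≫ i ≫ π = pullback.fst α (j ≫ α) ≫ π := by
    rw [← Category.assoc, hz, MonObj.mul_comp, GrpObj.inv_comp, Category.assoc, hjπ, MonObj.comp_one, inv_one,
      _root_.mul_one]
  haveI : Surjective (i ≫ π).left := by
    haveI : Surjective (z.left ≫ (i ≫ π).left) := by
      rw [← Over.comp_left, hzπ, Over.comp_left]; infer_instance
    exact Surjective.of_comp z.left (i ≫ π).left
  haveI : LocallyOfFiniteType N.hom := by rw [← Over.w i]; infer_instance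
  haveI : IsAffine Q.left := NormalQuot.isAffine_of_surjective_hom (i ≫ π)
  have hπ : π = 1 := AffHull.hom_eq_one hO π
  obtain ⟨w, hw, -⟩ := hkerπ.exists_lift (𝟙 G) (toUnit G) (by rw [hπ, MonObj.comp_one, Hom.one_def])
  haveI : Surjective j.left := by
    haveI : Surjective (w.left ≫ j.left) := by rw [← Over.comp_left, hw, Over.id_left]; infer_instance
    exact Surjective.of_comp w.left j.left
  rw [← hpj, Over.comp_left]; infer_instance

theorem subsingleton_of_dim_le_zero {Z : Type*} [TopologicalSpace Z] [QuasiSober Z] [T0Space Z]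
    [IrreducibleSpace Z] (h : topologicalKrullDim Z ≤ 0) : Subsingleton Z := by
  refine ⟨fun a b => ?_⟩
  have key : ∀ w : Z, w = genericPoint Z := fun w => by
    let C : TopologicalSpace.IrreducibleCloseds Z :=
      ⟨closure {w}, isIrreducible_singleton.closure, isClosed_closure⟩
    let U : TopologicalSpace.IrreducibleCloseds Z := ⟨Set.univ, IrreducibleSpace.isIrreducible_univ Z, isClosed_univ⟩
    have hUC : U ≤ C := Order.krullDim_nonpos_iff_forall_isMin.1 h U (show C ≤ U from Set.subset_univ _)
    have hg : IsGenericPoint w (Set.univ : Set Z) := Set.univ_subset_iff.1 hUC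
    exact hg.eq (genericPoint_spec Z)
  rw [key a, key b]

theorem antiAff_pow_isogeny (G : Over (Spec (CommRingCat.of k))) [GrpObj G] [Smooth G.hom] [QuasiCompact G.hom]
    (hO : IsIso G.hom.appTop) (n : ℕ) (hn : 1 ≤ n) :
    Surjective (𝟙 G ^ n).left ∧ IsFinite (𝟙 G ^ n).left := by
  haveI := antiAff_pow_surjective G hO n hn
  haveI := isCommMonObj_of_antiAffine G hO
  haveI := AffHull.connectedSpace_of_antiAffine G hO
  haveI : GeometricallyReduced G.hom := Groth.Agent.AV.geometricallyReduced_of_smooth G.hom
  haveI : GeometricallyIntegral G.hom := Groth.Agent.AV.geometricallyIntegral_of_connected G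
  haveI : IsReduced G.left := Groth.Agent.AV.isReduced_of_smooth_field G.hom
  haveI : IrreducibleSpace G.left := by
    haveI : AlgebraicGeometry.IsIntegral G.left := GeometricallyIntegral.isIntegral_of_subsingleton G.hom
    infer_instance
  set φ : G ⟶ G := 𝟙 G ^ n with hφ
  haveI : IsMonHom φ := Groth.Agent.AV.Isogeny.isMonHom_pow n
  haveI : Flat φ.left := Groth.L08.FlatHom.flat_of_surjective G G φ
  haveI : IsSeparated G.hom := Groth.Agent.AV.isSeparated_of_grpObj G
  haveI : LocallyOfFiniteType φ.left := Groth.L08.ChevPerf.lft_left φ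
  haveI : QuasiCompact φ.left := Groth.L08.ChevPerf.quasiCompact_left φ
  haveI : IsLocallyNoetherian G.left := LocallyOfFiniteType.isLocallyNoetherian G.hom
  have hd := (Groth.L00.EquidimFlat.main k G.hom G.hom φ.left (Over.w φ) 0).1 (fun Z hZ => by
    rw [irreducibleComponents_eq_singleton] at hZ
    rw [Set.mem_singleton_iff.1 hZ, Nat.cast_zero, add_zero]
    exact IsHomeomorph.topologicalKrullDim_eq _ (Homeomorph.Set.univ _).isHomeomorph)
  haveI : LocallyQuasiFinite φ.left := by
    refine LocallyQuasiFinite.of_finite_preimage_singleton _ fun y => ?_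
    haveI : LocallyOfFiniteType (φ.left.fiberToSpecResidueField y) :=
      MorphismProperty.pullback_snd (P := @LocallyOfFiniteType) φ.left _ ‹_›
    haveI : QuasiCompact (φ.left.fiberToSpecResidueField y) :=
      MorphismProperty.pullback_snd (P := @QuasiCompact) φ.left _ ‹_›
    haveI : IsLocallyNoetherian (φ.left.fiber y) :=
      LocallyOfFiniteType.isLocallyNoetherian (φ.left.fiberToSpecResidueField y)
    haveI : CompactSpace (φ.left.fiber y) :=
      QuasiCompact.compactSpace_of_compactSpace (φ.left.fiberToSpecResidueField y)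
    haveI : IsNoetherian (φ.left.fiber y) := {}
    haveI : Finite (φ.left.fiber y) := by
      have hfin := TopologicalSpace.NoetherianSpace.finite_irreducibleComponents (α := φ.left.fiber y)
      refine Set.finite_univ_iff.1 ?_
      rw [← sUnion_irreducibleComponents]
      refine hfin.sUnion fun C hC => ?_
      have hcl := isClosed_of_mem_irreducibleComponents C hC
      haveI : IrreducibleSpace C := Subtype.irreducibleSpace hC.1
      haveI : QuasiSober C := hcl.isClosedEmbedding_subtypeVal.quasiSober
      haveI : Subsingleton C := subsingleton_of_dim_le_zero (by rw [hd y C hC, Nat.cast_zero])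
      exact (Set.subsingleton_coe C).1 ‹_› |>.finite
    rw [← Scheme.Hom.range_fiberι]
    exact Set.finite_range _
  exact ⟨‹_›, (Groth.L08.IsogenyFibres.finite_surjective_of_flat_quasiFinite G G φ).1⟩

/-- integral powers on an anti-affine group are isogenies -/
theorem antiAff_zpow_isogeny (G : Over (Spec (CommRingCat.of k))) [GrpObj G] [Smooth G.hom] [QuasiCompact G.hom]
    (hO : IsIso G.hom.appTop) (n : ℤ) (hn : n ≠ 0) :
    Surjective (𝟙 G ^ n).left ∧ IsFinite (𝟙 G ^ n).left := by
  cases n with
  | ofNat m =>
    rw [Int.ofNat_eq_natCast, zpow_natCast]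
    exact antiAff_pow_isogeny G hO m (Nat.one_le_iff_ne_zero.2 (by simpa using hn))
  | negSucc m =>
    obtain ⟨_, _⟩ := antiAff_pow_isogeny G hO (m + 1) (Nat.le_add_left 1 m)
    have e : (𝟙 G) ^ (Int.negSucc m) = (𝟙 G ^ (m + 1)) ≫ ι := by
      rw [zpow_negSucc]; exact Hom.inv_def _
    haveI : IsIso (ι : G ⟶ G) := inferInstance
    haveI : IsIso (ι : G ⟶ G).left := inferInstanceAs (IsIso ((Over.forget _).map (ι : G ⟶ G)))
    rw [e, Over.comp_left]
    exact ⟨inferInstance, inferInstance⟩

end Groth.L08.SmallNorm
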