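import Groth.Agent.L04.Corr.FrobInverse
import Groth.Agent.L08.Albanese.FullyFaithful

/-!
# Iterated Frobenius of schemes over a field as natural transformations

For morphisms `d : Spec k ⟶ S'` and `e : S' ⟶ Spec k` composing to an iterate of the Frobenius of
`Spec k`, the iterated Frobenius gives `X ⟶ d^* e^* X`, natural in `X`, hence a homomorphism on groups.
-/

set_option autoImplicit false
set_option backward.isDefEq.respectTransparency.types false
set_option linter.style.haveILetI false
set_option linter.unusedSectionVars false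

universe u

open CategoryTheory CategoryTheory.Limits MonoidalCategory CartesianMonoidalCategory MonObj AlgebraicGeometry

noncomputable section

namespace Groth.L08.SmallNorm

/-- the iterated absolute Frobenius -/
def Fr (X : Scheme.{u}) (p : ℕ) [Fact p.Prime] [FrobSch.IsCharP X p] (n : ℕ) : X ⟶ X :=
  End.asHom (End.of (FrobSch.frob X p) ^ n)

variable {p : ℕ} [Fact p.Prime] {n : ℕ}

@[reassoc]
theorem Fr_comp {X Y : Scheme.{u}} [FrobSch.IsCharP X p] [FrobSch.IsCharP Y p] (f : X ⟶ Y) :
    Fr X p n ≫ f = f ≫ Fr Y p n :=
  Groth.L04.FrobTwist.iter_frob_comp p f n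

theorem Fr_base (X : Scheme.{u}) [FrobSch.IsCharP X p] (x : X) : Fr X p n x = x :=
  (Groth.L04.FrobTwist.iter_frob_apply X p n).1 x

theorem Fr_preimage (X : Scheme.{u}) [FrobSch.IsCharP X p] (U : X.Opens) : Fr X p n ⁻¹ᵁ U = U := by
  ext x
  show Fr X p n x ∈ U ↔ x ∈ U
  rw [Fr_base]

instance isAffineHom_Fr (X : Scheme.{u}) [FrobSch.IsCharP X p] : IsAffineHom (Fr X p n) :=
  ⟨fun U hU => by rw [Fr_preimage]; exact hU⟩

variable {k : Type u} [Field k] [CharP k p] {S' : Scheme.{u}}

theorem isCharP_left (X : Over (Spec (CommRingCat.of k))) : FrobSch.IsCharP X.left p :=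
  FrobSch.IsCharP.of_hom X.hom p

variable (d : Spec (CommRingCat.of k) ⟶ S') (e : S' ⟶ Spec (CommRingCat.of k))
  (hde : d ≫ e = Fr (Spec (CommRingCat.of k)) p n)

include hde

theorem frob_cond (X : Over (Spec (CommRingCat.of k))) :
    letI := isCharP_left (p := p) X
    Fr X.left p n ≫ X.hom = (X.hom ≫ d) ≫ e := by
  letI := isCharP_left (p := p) X
  rw [Fr_comp, Category.assoc, hde]

/-- the components of the twisted Frobenius -/
def tauApp (X : Over (Spec (CommRingCat.of k))) : X ⟶ (Over.pullback d).obj ((Over.pullback e).obj X) :=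
  letI := isCharP_left (p := p) X
  Over.homMk (pullback.lift (pullback.lift (Fr X.left p n) (X.hom ≫ d) (frob_cond d e hde X)) X.hom
    (pullback.lift_snd _ _ _)) (pullback.lift_snd _ _ _)

theorem tauApp_fst (X : Over (Spec (CommRingCat.of k))) :
    letI := isCharP_left (p := p) X
    (tauApp d e hde X).left ≫ pullback.fst _ d ≫ pullback.fst X.hom e = Fr X.left p n := by
  letI := isCharP_left (p := p) X
  simp only [tauApp, Over.homMk_left]
  rw [← Category.assoc]
  erw [pullback.lift_fst, pullback.lift_fst]

theorem tauApp_fst_snd (X : Over (Spec (CommRingCat.of k))) :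
    (tauApp d e hde X).left ≫ pullback.fst _ d ≫ pullback.snd X.hom e = X.hom ≫ d := by
  simp only [tauApp, Over.homMk_left]
  rw [← Category.assoc]
  erw [pullback.lift_fst, pullback.lift_snd]

/-- the twisted Frobenius -/
def tau : 𝟭 (Over (Spec (CommRingCat.of k))) ⟶ Over.pullback e ⋙ Over.pullback d where
  app := tauApp d e hde
  naturality X Y f := by
    letI := isCharP_left (p := p) X
    letI := isCharP_left (p := p) Y
    apply Over.OverMorphism.ext
    apply pullback.hom_ext
    · apply pullback.hom_ext
      · simp only [Functor.id_map, Functor.comp_map, Over.comp_left, Category.assoc, Over.pullback_map_left]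
        erw [tauApp_fst d e hde Y, pullback.lift_fst_assoc]
        simp only [Category.assoc]
        erw [pullback.lift_fst]
        rw [← Fr_comp (p := p) (n := n) f.left]
        erw [← reassoc_of% (tauApp_fst d e hde X)]
      · simp only [Functor.id_map, Functor.comp_map, Over.comp_left, Category.assoc, Over.pullback_map_left]
        erw [tauApp_fst_snd d e hde Y, pullback.lift_fst_assoc]
        simp only [Category.assoc]
        erw [pullback.lift_snd]
        rw [← Category.assoc f.left, Over.w f]
        exact (tauApp_fst_snd d e hde X).symm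
    · exact (Over.w _).trans (Over.w _).symm

theorem tau_app (X : Over (Spec (CommRingCat.of k))) : (tau d e hde).app X = tauApp d e hde X := rfl

/-- the twisted Frobenius of a group is a homomorphism -/
theorem isMonHom_tau (G : Over (Spec (CommRingCat.of k))) [gG : GrpObj G] :
    IsMonHom (tauApp d e hde G : G ⟶ Red.bc d (Red.bc e G)) :=
  Groth.L08.Albanese.isMonHom_natApp (𝟭 _) (Over.pullback e ⋙ Over.pullback d) (tau d e hde) G
    gG (Red.grpObj_bc d (Red.bc e G)) (Category.id_comp _).symm (Category.id_comp _).symm
    (Groth.L08.Albanese.η_comp d e G) (Groth.L08.Albanese.μ_comp d e G)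

theorem isAffineHom_tau [IsAffine S'] (X : Over (Spec (CommRingCat.of k))) :
    IsAffineHom (tauApp d e hde X).left := by
  letI := isCharP_left (p := p) X
  haveI : IsAffineHom d := isAffineHom_of_isAffine d
  haveI : IsAffineHom e := isAffineHom_of_isAffine e
  haveI : IsAffineHom (pullback.fst X.hom e) := MorphismProperty.pullback_fst (P := @IsAffineHom) _ _ ‹_›
  haveI : IsAffineHom (pullback.fst ((Over.pullback e).obj X).hom d) :=
    MorphismProperty.pullback_fst (P := @IsAffineHom) _ _ ‹_›
  haveI : IsAffineHom ((tauApp d e hde X).left ≫ pullback.fst ((Over.pullback e).obj X).hom d ≫ pullback.fst X.hom e) := by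
    rw [tauApp_fst d e hde X]; infer_instance
  exact IsAffineHom.of_comp _ (pullback.fst ((Over.pullback e).obj X).hom d ≫ pullback.fst X.hom e)

end Groth.L08.SmallNorm
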