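import Groth.Agent.L08.Albanese.Basic
import Groth.Agent.S14759

/-!
# The kernel of the largest proper quotient is connected
-/

set_option autoImplicit false
set_option backward.isDefEq.respectTransparency.types false
set_option linter.style.haveILetI false

universe u

open CategoryTheory CategoryTheory.Limits MonoidalCategory CartesianMonoidalCategory MonObj AlgebraicGeometry

noncomputable section

namespace Groth.L08.SmallNorm

variable {k : Type u} [Field k]

/-- no connectedness of the group is needed -/
theorem connectedSpace_of_largest {G N A : Over (Spec (CommRingCat.of k))} [GrpObj G] [GrpObj N] [GrpObj A]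
    [LocallyOfFiniteType G.hom] [QuasiCompact G.hom] [IsProper A.hom]
    (i : N ⟶ G) [IsMonHom i] [IsClosedImmersion i.left] (α : G ⟶ A) [IsMonHom α] [Surjective α.left] [Flat α.left]
    [LocallyOfFinitePresentation α.left] (sq : AlgGrp.IsKernel i α)
    (hlarge : ∀ (B : Over (Spec (CommRingCat.of k))) [GrpObj B] [IsProper B.hom] (q : G ⟶ B) [IsMonHom q], i ≫ q = 1) :
    ConnectedSpace N.left := by
  haveI : Mono i := Over.mono_of_mono_left i
  haveI : LocallyOfFiniteType N.hom := by rw [← Over.w i]; infer_instance
  haveI : QuasiCompact N.hom := by rw [← Over.w i]; infer_instance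
  obtain ⟨N₀, gN₀, j, _, _, _, hr⟩ := IdComp.exists_identityComponent N
  haveI : ConnectedSpace N₀.left := by
    refine connectedSpace_iff_univ.2 ⟨⟨Groth.L25.Component.one N₀, trivial⟩, ?_⟩
    have h := (isConnected_connectedComponent (x := Groth.L25.Component.one N)).isPreconnected
    rw [← hr, ← Set.image_univ] at h
    exact (j.left.isOpenEmbedding.toIsEmbedding.toIsInducing.isPreconnected_image).1 h
  haveI : LocallyOfFiniteType N₀.hom := by rw [← Over.w j]; infer_instance
  haveI : IsMonHom (j ≫ i) := inferInstance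
  haveI : IsClosedImmersion (j ≫ i).left := inferInstanceAs (IsClosedImmersion (j.left ≫ i.left))
  haveI : Mono (j ≫ i) := Over.mono_of_mono_left _
  haveI : Mono j := Over.mono_of_mono_left _
  obtain ⟨Y, p, _, _, _, sqp⟩ := GQuot.exists_quotient_field (j ≫ i)
  obtain ⟨X, q, _, _, _, sqq, hlft, -, hqc, -, -⟩ := GQuot.exists_struct p sqp
  obtain ⟨gX, _, hker⟩ := GQuot.exists_grp (Groth.Agent.S14759.normal_component (Groth.L08.Albanese.isNormalHom_of_kernel sq) j hr) q sqq
  haveI := hlft inferInstance
  haveI := hqc inferInstance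
  obtain ⟨π, _, hπ, -⟩ := Groth.Agent.S3280.result k G N₀ X A q (j ≫ i) hker α (by
    rw [Category.assoc, sq.w, ← Category.assoc]
    congr 1
    exact toUnit_unique _ _)
  obtain ⟨K, gK, κ, _, _, -, sqK⟩ := AbelianGrp.exists_kernel π
  haveI : Mono κ := Over.mono_of_mono_left κ
  haveI : LocallyOfFiniteType K.hom := by rw [← Over.w κ]; infer_instance
  have hκ : κ ≫ π = 1 := sqK.w.trans (Hom.one_def).symm
  obtain ⟨h, hh, -⟩ := sqK.exists_lift (i ≫ q) (toUnit N) (by rw [Category.assoc, hπ, sq.w])
  have sqN : IsPullback h i κ q := by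
    refine IsPullback.mk' hh (fun T a b _ e2 => ?_) (fun T a b e => ?_)
    · exact (cancel_mono i).1 e2
    · obtain ⟨c, hc, -⟩ := sq.exists_lift b (toUnit T) (by
        rw [← hπ, ← Category.assoc, ← e, Category.assoc, hκ, MonObj.comp_one, Hom.one_def])
      exact ⟨c, by rw [← cancel_mono κ, Category.assoc, hh, reassoc_of% hc, e], hc⟩
  have hsN := (sqN.map (Over.forget _)).flip
  haveI : Surjective h.left :=
    MorphismProperty.of_isPullback (P := @Surjective) hsN.flip.flip ‹Surjective q.left›
  haveI : Flat h.left := MorphismProperty.of_isPullback (P := @Flat) hsN.flip.flip ‹Flat q.left›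
  haveI : LocallyOfFinitePresentation h.left :=
    MorphismProperty.of_isPullback (P := @LocallyOfFinitePresentation) hsN.flip.flip ‹_›
  have hone : h.left '' Set.range j.left = {Groth.L25.Component.one K} := by
    have e1 : j ≫ h = toUnit N₀ ≫ η[K] := by
      rw [← cancel_mono κ, Category.assoc, hh, Category.assoc, IsMonHom.one_hom, ← Category.assoc, hker.w]
    refine Set.eq_singleton_iff_unique_mem.2 ⟨?_, ?_⟩
    · exact ⟨_, ⟨Groth.L25.Component.one N₀, rfl⟩, (congr(($e1).left (Groth.L25.Component.one N₀))).trans
        (congrArg η[K].left (Subsingleton.elim (α := PrimeSpectrum k) _ _))⟩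
    · rintro _ ⟨_, ⟨x, rfl⟩, rfl⟩
      exact (congr(($e1).left x)).trans (congrArg η[K].left (Subsingleton.elim (α := PrimeSpectrum k) _ _))
  haveI : QuasiCompact K.hom := by
    haveI : CompactSpace N.left := QuasiCompact.compactSpace_of_compactSpace N.hom
    haveI : CompactSpace K.left := h.left.surjective.compactSpace h.left.continuous
    exact (quasiCompact_iff_compactSpace K.hom).2 inferInstance
  haveI : IsFinite K.hom := Groth.L08.Albanese.isFinite_of_isOpen_one K (by
    rw [← hone]; exact h.left.isOpenMap _ j.left.isOpenEmbedding.isOpen_range)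
  let t : K ⊗ G ⟶ X := (fst K G ≫ κ) * (snd K G ≫ q)
  have sqt : IsPullback t (snd K G) π α := by
    refine IsPullback.mk' ?_ (fun T a b e1 e2 => ?_) (fun T a g e => ?_)
    · simp only [t, MonObj.mul_comp, Category.assoc, hκ, hπ, MonObj.comp_one, _root_.one_mul]
    · refine CartesianMonoidalCategory.hom_ext _ _ ?_ e2
      simp only [t, MonObj.comp_mul, reassoc_of% e2, mul_left_inj] at e1
      rw [← Category.assoc, ← Category.assoc, cancel_mono] at e1
      exact e1
    · obtain ⟨f, hf, -⟩ := sqK.exists_lift (a * (g ≫ q)⁻¹) (toUnit T) (by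
        rw [MonObj.mul_comp, GrpObj.inv_comp, Category.assoc, hπ, e, mul_inv_cancel, Hom.one_def])
      refine ⟨CartesianMonoidalCategory.lift f g, ?_, lift_snd _ _⟩
      simp only [t, MonObj.comp_mul, lift_fst_assoc, lift_snd_assoc, hf, inv_mul_cancel_right]
  haveI : IsProper (snd K G).left :=
    inferInstanceAs (IsProper (pullback.snd K.hom G.hom))
  haveI : QuasiCompact α.left := AbelianGrp.quasiCompact_left α
  haveI : IsProper π.left :=
    haveI := Groth.Agent.S0086.result.{u}
    MorphismProperty.of_isPullback_of_descendsAlong (P := @IsProper) (Q := @Surjective ⊓ @Flat ⊓ @QuasiCompact)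
      (sqt.map (Over.forget _)).flip ⟨⟨‹Surjective α.left›, ‹Flat α.left›⟩, ‹QuasiCompact α.left›⟩
      ‹IsProper (snd K G).left›
  haveI : IsProper X.hom := by rw [← Over.w π]; infer_instance
  obtain ⟨z, hz, -⟩ := hker.exists_lift i (toUnit N) (by rw [hlarge X q, Hom.one_def])
  have hz' : z ≫ j = 𝟙 N := by rw [← cancel_mono i, Category.assoc, hz, Category.id_comp]
  have huniv : connectedComponent (Groth.L25.Component.one N) = Set.univ := by
    rw [← hr]
    exact Set.eq_univ_of_forall fun y => ⟨z.left y, congr(($hz').left y)⟩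
  exact connectedSpace_iff_univ.2 (huniv ▸ isConnected_connectedComponent)

end Groth.L08.SmallNorm
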