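import Groth.Agent.L27.FEtField.Limit
import Groth.Agent.L22.Ideal
import Mathlib.AlgebraicGeometry.Morphisms.FiniteType

/-!
# Closed subschemes of a base change are defined over a finite subextension
-/

set_option autoImplicit false
set_option backward.isDefEq.respectTransparency.types false
set_option linter.style.haveILetI false
set_option linter.unusedSectionVars false

universe u

open CategoryTheory CategoryTheory.Limits AlgebraicGeometry Opposite Groth.L27.FEtField

noncomputable section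

namespace Groth.L08.SmallNorm

variable {k K : Type u} [Field k] [Field K] [Algebra k K] {X : Scheme.{u}} (f : X ⟶ Spec (CommRingCat.of k))

/-- the base change to a finite subextension -/
abbrev XL (L : FSub k K) : Scheme.{u} := pullback f (sp L)

/-- the base change to the extension -/
abbrev XK : Scheme.{u} := pullback f (Spec.map (CommRingCat.ofHom (algebraMap k K)))

/-- the projection to a finite stage -/
def prL (L : FSub k K) : XK (K := K) f ⟶ XL f L := (bcCone (K := K) f).π.app (op L)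

theorem prL_fst (L : FSub k K) : prL f L ≫ pullback.fst f (sp L) = pullback.fst f _ :=
  pullback.lift_fst _ _ _

theorem prL_snd (L : FSub k K) :
    prL f L ≫ pullback.snd f (sp L) = pullback.snd f _ ≫ Spec.map (CommRingCat.ofHom (algebraMap L.1 K)) :=
  pullback.lift_snd _ _ _

instance isAffineHom_prL (L : FSub k K) : IsAffineHom (prL f L) := by
  haveI : IsAffineHom (pullback.fst f (sp L)) :=
    MorphismProperty.pullback_fst (P := @IsAffineHom) _ _ (isAffineHom_of_isAffine _)
  haveI : IsAffineHom (prL f L ≫ pullback.fst f (sp L)) := by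
    rw [prL_fst]; exact MorphismProperty.pullback_fst (P := @IsAffineHom) _ _ (isAffineHom_of_isAffine _)
  exact IsAffineHom.of_comp _ (pullback.fst f (sp L))

theorem appLE_comp_congr {W Y Z : Scheme.{u}} (φ : Y ⟶ Z) (π : W ⟶ Y) (π' : W ⟶ Z) (h : π ≫ φ = π')
    (A : Z.Opens) (B : Y.Opens) (C : W.Opens) (e1 : B ≤ φ ⁻¹ᵁ A) (e2 : C ≤ π ⁻¹ᵁ B) (e3 : C ≤ π' ⁻¹ᵁ A)
    (b : Γ(Z, A)) : (π.appLE B C e2).hom ((φ.appLE A B e1).hom b) = (π'.appLE A C e3).hom b := by
  subst h
  rw [← CommRingCat.comp_apply, Scheme.Hom.appLE_comp_appLE]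

section Sections

variable (U : X.Opens)

/-- the preimage at a finite stage -/
abbrev UL (L : FSub k K) : (XL f L).Opens := pullback.fst f (sp L) ⁻¹ᵁ U

/-- the preimage in the base change -/
abbrev UK : (XK (K := K) f).Opens := pullback.fst f _ ⁻¹ᵁ U

theorem UK_le (L : FSub k K) : UK (K := K) f U ≤ prL f L ⁻¹ᵁ UL f U L := by
  rw [← Scheme.Hom.comp_preimage, prL_fst]

/-- sections coming from a finite stage -/
def res (L : FSub k K) : Γ(XL f L, UL f U L) ⟶ Γ(XK (K := K) f, UK (K := K) f U) :=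
  (prL f L).appLE (UL f U L) (UK (K := K) f U) (UK_le f U L)

theorem range_res_mono {L M : FSub k K} (h : L ≤ M) :
    Set.range (res (K := K) f U L) ⊆ Set.range (res (K := K) f U M) := by
  rintro _ ⟨b, rfl⟩
  let φ : XL f M ⟶ XL f L := (bc (K := K) f).map (homOfLE h).op
  have hw : prL f M ≫ φ = prL f L := (bcCone (K := K) f).w (homOfLE h).op
  have hφ : φ ≫ pullback.fst f (sp L) = pullback.fst f (sp M) := pullback.lift_fst _ _ _
  have e1 : UL f U M ≤ φ ⁻¹ᵁ UL f U L := by
    show pullback.fst f (sp M) ⁻¹ᵁ U ≤ φ ⁻¹ᵁ (pullback.fst f (sp L) ⁻¹ᵁ U)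
    rw [← Scheme.Hom.comp_preimage, hφ]
  refine ⟨(φ.appLE (UL f U L) (UL f U M) e1).hom b, ?_⟩
  exact appLE_comp_congr φ (prL f M) (prL f L) hw _ _ _ e1 (UK_le f U M) (UK_le f U L) b

variable [Algebra.IsAlgebraic k K]

/-- all sections over an affine preimage come from a finite stage -/
theorem exists_res (hU : IsAffineOpen U) (a : Γ(XK (K := K) f, UK (K := K) f U)) :
    ∃ L, a ∈ Set.range (res (K := K) f U L) := by
  haveI : IsAffine U.toScheme := hU
  haveI : IsAffine (⊤ : (Spec (CommRingCat.of k)).Opens).toScheme := isAffineOpen_top _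
  haveI : IsAffine (⊤ : (Spec (CommRingCat.of K)).Opens).toScheme := isAffineOpen_top _
  let π := pullback.fst f (Spec.map (CommRingCat.ofHom (algebraMap k K)))
  let fK := pullback.snd f (Spec.map (CommRingCat.ofHom (algebraMap k K)))
  have sq : IsPullback π fK f (Spec.map (CommRingCat.ofHom (algebraMap k K))) := IsPullback.of_hasPullback _ _
  have hpb := Scheme.Hom.isPullback_resLE sq (US := ⊤) (UX := U) (UT := ⊤) (by simp) (by simp)
    (UY := π ⁻¹ᵁ U) (by simp)
  have hpo : IsPushout (f.appLE ⊤ U (by simp))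
      ((Spec.map (CommRingCat.ofHom (algebraMap k K))).appLE ⊤ ⊤ (by simp))
      (π.appLE U (π ⁻¹ᵁ U) le_rfl) (fK.appLE ⊤ (π ⁻¹ᵁ U) (by simp)) := by
    refine (isPushout_appTop_of_isPullback hpb).of_iso (Scheme.Opens.topIso ⊤) U.topIso
      (Scheme.Opens.topIso ⊤) (π ⁻¹ᵁ U).topIso ?_ ?_ ?_ ?_ <;>
    simp only [Scheme.Hom.appTop, Scheme.Hom.resLE_app_top, Category.assoc, Iso.inv_hom_id, Category.comp_id]
  let S : Subring Γ(XK (K := K) f, UK (K := K) f U) :=
    { carrier := {x | ∃ L, x ∈ Set.range (res (K := K) f U L)}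
      zero_mem' := ⟨Classical.arbitrary _, 0, map_zero _⟩
      one_mem' := ⟨Classical.arbitrary _, 1, map_one _⟩
      add_mem' := by
        rintro x y ⟨L, hx⟩ ⟨M, hy⟩
        obtain ⟨N, hL, hM⟩ := exists_ge_ge L M
        obtain ⟨x', rfl⟩ := range_res_mono f U hL hx
        obtain ⟨y', rfl⟩ := range_res_mono f U hM hy
        exact ⟨N, x' + y', map_add _ _ _⟩
      mul_mem' := by
        rintro x y ⟨L, hx⟩ ⟨M, hy⟩
        obtain ⟨N, hL, hM⟩ := exists_ge_ge L M
        obtain ⟨x', rfl⟩ := range_res_mono f U hL hx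
        obtain ⟨y', rfl⟩ := range_res_mono f U hM hy
        exact ⟨N, x' * y', map_mul _ _ _⟩
      neg_mem' := by
        rintro x ⟨L, x', rfl⟩
        exact ⟨L, -x', map_neg _ _⟩ }
  have h1 : ∀ s, (π.appLE U (π ⁻¹ᵁ U) le_rfl).hom s ∈ S := fun s => by
    let L : FSub k K := Classical.arbitrary _
    refine ⟨L, ((pullback.fst f (sp L)).appLE U (UL f U L) le_rfl).hom s, ?_⟩
    rw [res, ← CommRingCat.comp_apply, Scheme.Hom.appLE_comp_appLE]
    simp only [prL_fst]
    rfl
  have h2 : ∀ c, (fK.appLE ⊤ (π ⁻¹ᵁ U) (by simp)).hom c ∈ S := fun c => by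
    let c' : K := (Scheme.ΓSpecIso (CommRingCat.of K)).hom.hom c
    let L : FSub k K := ⟨IntermediateField.adjoin k {c'},
      IntermediateField.adjoin.finiteDimensional (Algebra.IsAlgebraic.isAlgebraic c').isIntegral⟩
    let inc := CommRingCat.ofHom (algebraMap L.1 K)
    let d : L.1 := ⟨c', IntermediateField.mem_adjoin_simple_self k c'⟩
    let d' := (Scheme.ΓSpecIso (CommRingCat.of L.1)).inv.hom d
    refine ⟨L, ((pullback.snd f (sp L)).appLE ⊤ (UL f U L) (by simp)).hom d', ?_⟩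
    rw [res, ← CommRingCat.comp_apply, Scheme.Hom.appLE_comp_appLE]
    simp only [prL_snd]
    rw [← Scheme.Hom.appLE_comp_appLE _ _ ⊤ ⊤ (UK (K := K) f U) le_top le_top]
    rw [CommRingCat.comp_apply]
    congr 1
    rw [show (Spec.map inc).appLE ⊤ ⊤ le_top = (Spec.map inc).appTop from Scheme.Hom.appLE_eq_app _]
    have hn := congrArg (fun m => m.hom d') (Scheme.ΓSpecIso_naturality inc)
    apply_fun (Scheme.ΓSpecIso (CommRingCat.of K)).hom.hom using
      (Scheme.ΓSpecIso (CommRingCat.of K)).commRingCatIsoToRingEquiv.injective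
    refine hn.trans ?_
    show inc.hom ((Scheme.ΓSpecIso (CommRingCat.of L.1)).hom.hom d') = c'
    rw [show (Scheme.ΓSpecIso (CommRingCat.of L.1)).hom.hom d' = d from Iso.inv_hom_id_apply _ _]
    rfl
  let Sc : CommRingCat.{u} := CommRingCat.of S
  let incS : Sc ⟶ Γ(XK (K := K) f, UK (K := K) f U) := CommRingCat.ofHom S.subtype
  let g1 : Γ(X, U) ⟶ Sc := CommRingCat.ofHom ((π.appLE U (π ⁻¹ᵁ U) le_rfl).hom.codRestrict S h1)
  let g2 : Γ(Spec (CommRingCat.of K), ⊤) ⟶ Sc :=
    CommRingCat.ofHom ((fK.appLE ⊤ (π ⁻¹ᵁ U) (by simp)).hom.codRestrict S h2)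
  let s := hpo.desc g1 g2 (by
    ext x
    exact congr(($hpo.w).hom x))
  have hs : s ≫ incS = 𝟙 _ := by
    refine hpo.hom_ext ?_ ?_
    · rw [← Category.assoc, hpo.inl_desc, Category.comp_id]; rfl
    · rw [← Category.assoc, hpo.inr_desc, Category.comp_id]; rfl
  have ha : (s.hom a).val = a := congr(($hs).hom a)
  exact ha ▸ (s.hom a).2

end Sections

theorem mem_map_ideal {Y Z : Scheme.{u}} (π : Y ⟶ Z) [IsAffineHom π] (I : Y.IdealSheafData) (U : Z.affineOpens)
    (V : Y.affineOpens) (h : V.1 = π ⁻¹ᵁ U.1) (a : Γ(Z, U.1)) (ha : (π.appLE U.1 V.1 h.le).hom a ∈ I.ideal V) :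
    a ∈ (I.map π).ideal U := by
  obtain ⟨V, hV⟩ := V
  dsimp only at h
  subst h
  rw [Scheme.IdealSheafData.ideal_map_of_isAffineHom, Ideal.mem_comap, Scheme.Hom.app_eq_appLE]
  exact ha

variable [Algebra.IsAlgebraic k K]

/-- an ideal sheaf of the base change comes from a finite stage -/
theorem exists_stage [LocallyOfFiniteType f] [QuasiCompact f] (I : (XK (K := K) f).IdealSheafData) :
    ∃ L : FSub k K, (I.map (prL f L)).comap (prL f L) = I := by
  classical
  haveI : CompactSpace X := QuasiCompact.compactSpace_of_compactSpace f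
  haveI : LocallyOfFiniteType (pullback.snd f (Spec.map (CommRingCat.ofHom (algebraMap k K)))) := inferInstance
  haveI : IsLocallyNoetherian (XK (K := K) f) :=
    LocallyOfFiniteType.isLocallyNoetherian (pullback.snd f (Spec.map (CommRingCat.ofHom (algebraMap k K))))
  haveI hπ : IsAffineHom (pullback.fst f (Spec.map (CommRingCat.ofHom (algebraMap k K)))) :=
    MorphismProperty.pullback_fst (P := @IsAffineHom) _ _ (isAffineHom_of_isAffine _)
  let 𝒰 := X.affineCover.finiteSubcover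
  let U : 𝒰.I₀ → X.affineOpens := fun i => ⟨(𝒰.f i).opensRange, isAffineOpen_opensRange (𝒰.f i)⟩
  let V : 𝒰.I₀ → (XK (K := K) f).affineOpens := fun i => ⟨UK (K := K) f (U i).1, (U i).2.preimage _⟩
  haveI : ∀ i, IsNoetherianRing Γ(XK (K := K) f, (V i).1) := fun i => IsLocallyNoetherian.component_noetherian (V i)
  have hgen : ∀ i, ∃ s : Finset Γ(XK (K := K) f, (V i).1), Ideal.span (s : Set _) = I.ideal (V i) := fun i =>
    IsNoetherian.noetherian (I.ideal (V i))
  choose s hs using hgen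
  choose Ls hLs using fun (p : Σ i, s i) => exists_res f (U p.1).1 (U p.1).2 p.2.1
  obtain ⟨L, hL⟩ := Finite.exists_le Ls
  refine ⟨L, le_antisymm (Scheme.IdealSheafData.comap_map_le _ _) ?_⟩
  have hcov : ⨆ i, (V i).1 = ⊤ := by
    show ⨆ i, pullback.fst f _ ⁻¹ᵁ (U i).1 = ⊤
    rw [← Scheme.Hom.preimage_iSup, show ⨆ i, (U i).1 = ⊤ from 𝒰.iSup_opensRange, Scheme.Hom.preimage_top]
  refine Scheme.IdealSheafData.le_of_iSup_eq_top V hcov fun i => ?_
  let W : (XL f L).affineOpens := ⟨UL f (U i).1 L, by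
    haveI : IsAffineHom (pullback.fst f (sp L)) :=
      MorphismProperty.pullback_fst (P := @IsAffineHom) _ _ (isAffineHom_of_isAffine _)
    exact (U i).2.preimage _⟩
  rw [Groth.L22.Ideals.comap_ideal (prL f L) (I.map (prL f L)) W (V i) (UK_le f (U i).1 L), ← hs i, Ideal.span_le]
  intro a ha
  have hmem : a ∈ Set.range (res (K := K) f (U i).1 L) :=
    range_res_mono f (U i).1 (hL ⟨i, ⟨a, ha⟩⟩) (hLs ⟨i, ⟨a, ha⟩⟩)
  obtain ⟨b, hb⟩ := hmem
  rw [← hb]
  refine Ideal.mem_map_of_mem _ (mem_map_ideal (prL f L) I W (V i) ?_ b ?_)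
  · show UK (K := K) f (U i).1 = prL f L ⁻¹ᵁ UL f (U i).1 L
    rw [← Scheme.Hom.comp_preimage, prL_fst]
  · rw [← hs i]
    exact Ideal.subset_span (hb.symm ▸ ha)

end Groth.L08.SmallNorm
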