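import Groth.Agent.L08.SmallNorm.HasAff
import Groth.Agent.L08.SmallNorm.Spread
import Groth.Agent.L08.ChevPerf.Perfect
import Groth.Agent.L08.Albanese.Basic
import Groth.Agent.L08.ChevPerf.Functorial

/-!
# Maps to proper groups with affine kernel exist at a finite stage
-/

set_option autoImplicit false
set_option backward.isDefEq.respectTransparency.types false
set_option linter.style.haveILetI false
set_option linter.unusedSectionVars false

universe u

open CategoryTheory CategoryTheory.Limits MonoidalCategory CartesianMonoidalCategory MonObj GrpObj AlgebraicGeometry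
open Groth.L27.FEtField Groth.L08.Chev Opposite

noncomputable section

namespace Groth.L08.SmallNorm

theorem bc_comp_fst {S S' S'' : Scheme.{u}} {σ : S'' ⟶ S'} {e : S' ⟶ S} {h : S'' ⟶ S} (hc : σ ≫ e = h) (G : Over S) :
    ((Over.pullbackComp σ e).inv.app G ≫ eqToHom (congrArg (fun φ => Red.bc φ G) hc)).left ≫
      pullback.fst G.hom h = pullback.fst (Red.bc e G).hom σ ≫ pullback.fst G.hom e := by
  subst hc
  rw [eqToHom_refl, Category.comp_id]
  simp [Over.pullbackComp, Over.mapPullbackAdj, conjugateIsoEquiv, Over.mapComp, conjugateEquiv, mateEquiv, TwoSquare.natTrans, Adjunction.comp]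
  erw [pullback.lift_fst]
  erw [pullback.lift_fst_assoc]
  simp only [Category.assoc]
  erw [pullback.lift_fst_assoc]
  erw [pullback.lift_fst_assoc]
  rw [Category.id_comp]

variable {k K : Type u} [Field k] [Field K] [Algebra k K]

/-- a subgroup descends with its structure -/
theorem exists_grp_descend {G : Over (Spec (CommRingCat.of k))} [GrpObj G] {N : Over (Spec (CommRingCat.of K))} [GrpObj N]
    (i : N ⟶ Red.bc (AbVar.ext k K) G) [IsMonHom i] (hN : AlgGrp.IsNormalHom i)
    {L : Over (Spec (CommRingCat.of k))} (l : L ⟶ G) [IsClosedImmersion l.left]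
    (f : Red.bc (AbVar.ext k K) L ⟶ N) (g : N ⟶ Red.bc (AbVar.ext k K) L)
    (hf : f ≫ i = (Over.pullback (AbVar.ext k K)).map l) (hg : g ≫ (Over.pullback (AbVar.ext k K)).map l = i) :
    ∃ (_ : GrpObj L), IsMonHom l ∧ AlgGrp.IsNormalHom l := by
  let F := Over.pullback (AbVar.ext k K)
  haveI : Mono l := Over.mono_of_mono_left l
  have key : ∀ {T : Over (Spec (CommRingCat.of k))} (m : T ⟶ G) (z : F.obj T ⟶ N), z ≫ i = F.map m →
      ∃ z' : T ⟶ L, z' ≫ l = m := fun m z hz =>
    Groth.L08.Albanese.exists_factor_of_bc l m ⟨z ≫ g, by rw [Category.assoc, hg, hz]⟩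
  obtain ⟨gL, hl⟩ := Groth.L08.exists_grpObj_of_mono l
    (key η[G] (1 : F.obj (𝟙_ _) ⟶ N) (by
      rw [show η[G] = (1 : 𝟙_ (Over (Spec (CommRingCat.of k))) ⟶ G) by
        rw [Hom.one_def, toUnit_unique (toUnit (𝟙_ _)) (𝟙 _), Category.id_comp], Functor.map_one, MonObj.one_comp]))
    (key ((fst L L ≫ l) * (snd L L ≫ l)) ((F.map (fst L L) ≫ f) * (F.map (snd L L) ≫ f)) (by
      rw [MonObj.mul_comp, Category.assoc, Category.assoc, hf, Functor.map_mul, F.map_comp, F.map_comp]))
    (key l⁻¹ f⁻¹ (by rw [GrpObj.inv_comp, hf]; exact (map_inv (Functor.homMonoidHom F) l).symm))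
  refine ⟨gL, hl, fun T a b => ?_⟩
  obtain ⟨n', hn'⟩ := hN (F.obj (G ⊗ L)) (F.map (fst G L)) (F.map (snd G L) ≫ f)
  obtain ⟨z', hz'⟩ := key (fst G L * (snd G L ≫ l) * (fst G L)⁻¹) n' (by
    rw [← hn', Category.assoc, hf, ← F.map_comp, Functor.map_mul, Functor.map_mul]
    congr 1
    exact (map_inv (Functor.homMonoidHom F) (fst G L)).symm)
  refine ⟨lift a b ≫ z', ?_⟩
  have h2 := congrArg (fun m => lift a b ≫ m) hz'
  simp only [MonObj.comp_mul, GrpObj.comp_inv, lift_fst, lift_snd_assoc] at h2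
  rw [Category.assoc, h2]

/-- a morphism into the base change compatible with the first projections commutes with the projection to a finite stage -/
theorem comp_prL {X P : Scheme.{u}} (f : X ⟶ Spec (CommRingCat.of k)) {S : FSub k K} (a : P ⟶ XK (K := K) f)
    (π : P ⟶ XL f S) (pK : P ⟶ Spec (CommRingCat.of K))
    (ha : a ≫ pullback.snd f (Spec.map (CommRingCat.ofHom (algebraMap k K))) = pK)
    (h1 : a ≫ pullback.fst f (Spec.map (CommRingCat.ofHom (algebraMap k K))) = π ≫ pullback.fst f (sp S))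
    (h2 : π ≫ pullback.snd f (sp S) = pK ≫ Spec.map (CommRingCat.ofHom (algebraMap S.1 K))) :
    a ≫ prL f S = π := by
  apply pullback.hom_ext
  · rw [Category.assoc, prL_fst, h1]
  · rw [Category.assoc, prL_snd, reassoc_of% ha, h2]

/-- reconstructing a morphism from its projection to a finite stage -/
theorem eq_of_prL {X P : Scheme.{u}} (f : X ⟶ Spec (CommRingCat.of k)) {S : FSub k K} {a b : P ⟶ XK (K := K) f}
    (h1 : a ≫ prL f S = b ≫ prL f S)
    (h2 : a ≫ pullback.snd f _ = b ≫ pullback.snd f _) : a = b := by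
  apply pullback.hom_ext
  · rw [← prL_fst f S, reassoc_of% h1]
  · exact h2

/-- the closed subscheme generated along a projection -/
theorem exists_descend_along {S₁ S₂ : Scheme.{u}} (t : S₂ ⟶ S₁) {G' : Over S₁} {T N : Over S₂} (i : N ⟶ T)
    [IsClosedImmersion i.left] (π : T.left ⟶ G'.left) (hπ : π ≫ G'.hom = T.hom ≫ t)
    (φ : Red.bc t G' ⟶ T) (hφ : φ.left ≫ π = pullback.fst G'.hom t)
    (hI : (i.left.ker.map π).comap π = i.left.ker)
    (hext : ∀ a b : N ⟶ T, a.left ≫ π = b.left ≫ π → a = b) :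
    ∃ (L : Over S₁) (l : L ⟶ G') (f : Red.bc t L ⟶ N) (g : N ⟶ Red.bc t L), IsClosedImmersion l.left ∧
      f ≫ i = (Over.pullback t).map l ≫ φ ∧ g ≫ (Over.pullback t).map l ≫ φ = i := by
  let J := i.left.ker.map π
  let L : Over S₁ := Over.mk (J.subschemeι ≫ G'.hom)
  let l : L ⟶ G' := Over.homMk J.subschemeι rfl
  haveI hcl : IsClosedImmersion l.left := inferInstanceAs (IsClosedImmersion J.subschemeι)
  let F := Over.pullback t
  have hlker : l.left.ker = J := J.ker_subschemeι
  have hfac : l.left.ker ≤ (i.left ≫ π).ker := by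
    rw [hlker, ← Scheme.IdealSheafData.map_ker]
  let m : N.left ⟶ L.left := IsClosedImmersion.lift l.left (i.left ≫ π) hfac
  have hm : m ≫ l.left = i.left ≫ π := IsClosedImmersion.lift_fac _ _ _
  have hmw : m ≫ L.hom = N.hom ≫ t := by
    rw [show L.hom = l.left ≫ G'.hom from rfl, reassoc_of% hm, hπ, ← Category.assoc, Over.w i]
  let g : N ⟶ Red.bc t L := Over.homMk (pullback.lift m N.hom hmw) (pullback.lift_snd _ _ _)
  have hl : (F.map l).left ≫ pullback.fst G'.hom t = pullback.fst L.hom t ≫ l.left := pullback.lift_fst _ _ _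
  have hg : g ≫ F.map l ≫ φ = i := hext _ _ (by
    rw [Over.comp_left, Over.comp_left, Category.assoc, Category.assoc, hφ, hl, ← hm, ← Category.assoc]
    exact congrArg (· ≫ l.left) (pullback.lift_fst _ _ _))
  have hkerle : i.left.ker ≤ (F.map l ≫ φ).left.ker := by
    refine le_of_eq_of_le hI.symm (Scheme.IdealSheafData.le_map_iff_comap_le.1 ?_)
    rw [Scheme.IdealSheafData.map_ker (F.map l ≫ φ).left π, Over.comp_left, Category.assoc, hφ, hl]
    exact hlker.ge.trans (Scheme.Hom.le_ker_comp _ _)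
  let f : Red.bc t L ⟶ N :=
    Over.homMk (IsClosedImmersion.lift i.left (F.map l ≫ φ).left hkerle) (by
      rw [← Over.w i, IsClosedImmersion.lift_fac_assoc]
      exact Over.w (F.map l ≫ φ))
  exact ⟨L, l, f, g, hcl, Over.OverMorphism.ext (IsClosedImmersion.lift_fac _ _ _), hg⟩

/-- the closed subscheme generated at a stage, for any compatible comparison map -/
theorem exists_descend_stage {G : Over (Spec (CommRingCat.of k))} {S : FSub k K}
    {N : Over (Spec (CommRingCat.of K))} (i : N ⟶ Red.bc (AbVar.ext k K) G) [IsClosedImmersion i.left]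
    (φ : Red.bc (AbVar.ext S.1 K) (Red.bc (sp S) G) ⟶ Red.bc (AbVar.ext k K) G)
    (hfst : φ.left ≫ pullback.fst G.hom (AbVar.ext k K) =
      pullback.fst (Red.bc (sp S) G).hom (AbVar.ext S.1 K) ≫ pullback.fst G.hom (sp S))
    (hS : (i.left.ker.map (prL G.hom S)).comap (prL G.hom S) = i.left.ker) :
    ∃ (L : Over (Spec (CommRingCat.of S.1)))
      (l : L ⟶ Red.bc (sp S) G) (f : Red.bc (AbVar.ext S.1 K) L ⟶ N) (g : N ⟶ Red.bc (AbVar.ext S.1 K) L),
      IsClosedImmersion l.left ∧
      f ≫ i = (Over.pullback (AbVar.ext S.1 K)).map l ≫ φ ∧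
      g ≫ (Over.pullback (AbVar.ext S.1 K)).map l ≫ φ = i :=
  exists_descend_along (AbVar.ext S.1 K) (G' := Red.bc (sp S) G) i (prL G.hom S) (prL_snd G.hom S) φ
    (comp_prL G.hom φ.left _ _ (Over.w φ) hfst pullback.condition) hS
    (fun a b h => Over.OverMorphism.ext (eq_of_prL G.hom h ((Over.w a).trans (Over.w b).symm)))

theorem ext_comp_sp (S : FSub k K) : AbVar.ext S.1 K ≫ sp S = AbVar.ext k K := by
  show Spec.map _ ≫ Spec.map _ = Spec.map _
  rw [← Spec.map_comp, ← CommRingCat.ofHom_comp, ← IsScalarTower.algebraMap_eq]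

/-- the comparison isomorphism, generally -/
theorem exists_comparison_gen {S₀ S₁ S₂ : Scheme.{u}} (g : S₂ ⟶ S₁) (f : S₁ ⟶ S₀) (h : S₂ ⟶ S₀) (hc : g ≫ f = h)
    (G : Over S₀) [GrpObj G] :
    ∃ φ : Red.bc g (Red.bc f G) ⟶ Red.bc h G,
      IsIso φ ∧ IsMonHom φ ∧ φ.left ≫ pullback.fst G.hom h = pullback.fst (Red.bc f G).hom g ≫ pullback.fst G.hom f :=
  ⟨_, inferInstance, Groth.L08.Albanese.isMonHom_bc_comp hc G, bc_comp_fst hc G⟩

/-- the property descends to a finite subextension -/
theorem HasAff.exists_stage [Algebra.IsAlgebraic k K] {G : Over (Spec (CommRingCat.of k))} [GrpObj G]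
    [LocallyOfFiniteType G.hom] [QuasiCompact G.hom] (h : HasAff (Red.bc (AbVar.ext k K) G)) :
    ∃ S : FSub k K, HasAff (Red.bc (sp S) G) := by
  haveI : LocallyOfFiniteType (Red.bc (AbVar.ext k K) G).hom :=
    inferInstanceAs (LocallyOfFiniteType (pullback.snd G.hom (AbVar.ext k K)))
  haveI : QuasiCompact (Red.bc (AbVar.ext k K) G).hom :=
    inferInstanceAs (QuasiCompact (pullback.snd G.hom (AbVar.ext k K)))
  obtain ⟨Q, gQ, q, N₀, i₀, _, _, _, _, _, sq₀, hN₀⟩ := h.exists_surj
  obtain ⟨N, gN, i, _, _, -, sq⟩ := AbelianGrp.exists_kernel q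
  haveI : IsAffine N.left := by
    haveI := hN₀
    let e := sq.isoIsPullback _ _ sq₀
    haveI : IsIso e.hom.left := inferInstanceAs (IsIso ((Over.forget _).map e.hom))
    exact IsAffine.of_isIso e.hom.left
  have hN : AlgGrp.IsNormalHom i := Groth.L08.Albanese.isNormalHom_of_kernel sq
  obtain ⟨S, hS⟩ := Groth.L08.SmallNorm.exists_stage G.hom i.left.ker
  obtain ⟨φ, _, _, hfst⟩ := exists_comparison_gen (AbVar.ext S.1 K) (sp S) (AbVar.ext k K) (ext_comp_sp S) G
  obtain ⟨L, l, f, g, _, hf, hg⟩ := exists_descend_stage i φ hfst hS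
  refine ⟨S, ?_⟩
  let F := Over.pullback (AbVar.ext S.1 K)
  let G' := Red.bc (sp S) G
  haveI : Mono φ := inferInstance
  let i' : N ⟶ Red.bc (AbVar.ext S.1 K) G' := i ≫ CategoryTheory.inv φ
  have hi' : i' ≫ φ = i := by simp [i']
  haveI : IsMonHom i' := by
    haveI : IsMonHom (i' ≫ φ) := by rw [hi']; infer_instance
    exact isMonHom_of_comp i' φ
  have hi'n : AlgGrp.IsNormalHom i' := fun T a b => by
    obtain ⟨c, hc'⟩ := hN T (a ≫ φ) b
    refine ⟨c, ?_⟩
    rw [← cancel_mono φ, MonObj.mul_comp, MonObj.mul_comp, GrpObj.inv_comp, Category.assoc b, hi',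
      Category.assoc c, hi']
    exact hc'
  have hf' : f ≫ i' = F.map l := by rw [← cancel_mono φ, Category.assoc, hi']; exact hf
  have hg' : g ≫ F.map l = i' := by rw [← cancel_mono φ, Category.assoc, hi']; exact hg
  obtain ⟨gL, _, hnL⟩ := exists_grp_descend i' hi'n l f g hf' hg'
  haveI : Mono l := Over.mono_of_mono_left l
  haveI : LocallyOfFiniteType G'.hom := inferInstanceAs (LocallyOfFiniteType (pullback.snd G.hom (sp S)))
  haveI : QuasiCompact G'.hom := inferInstanceAs (QuasiCompact (pullback.snd G.hom (sp S)))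
  haveI : IsClosedImmersion (F.map l).left :=
    MorphismProperty.of_isPullback (P := @IsClosedImmersion) (Groth.L08.Albanese.isPullback_bc_map l).flip ‹_›
  haveI : Mono (F.map l) := Over.mono_of_mono_left _
  haveI : Mono i := Over.mono_of_mono_left i
  haveI : Mono i' := by
    haveI : Mono (i' ≫ φ) := by rw [hi']; infer_instance
    exact mono_of_mono i' φ
  haveI hfi : IsIso f := ⟨g, by rw [← cancel_mono (F.map l), Category.assoc, hg', hf', Category.id_comp],
    by rw [← cancel_mono i', Category.assoc, hf', hg', Category.id_comp]⟩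
  haveI : IsIso f.left := inferInstanceAs (IsIso ((Over.forget _).map f))
  haveI : IsAffine (Red.bc (AbVar.ext S.1 K) L).left := IsAffine.of_isIso f.left
  haveI : IsAffineHom L.hom := Groth.L08.ChevPerf.descends (K := K) @IsAffineHom L inferInstance
  haveI : IsAffine L.left := isAffine_of_isAffineHom L.hom
  haveI : LocallyOfFiniteType L.hom := by rw [← Over.w l]; infer_instance
  obtain ⟨Y, p₀, _, _, _, sqp⟩ := GQuot.exists_quotient_field l
  obtain ⟨Q', q', _, _, _, sqq, hlft, -, hqc, -, -⟩ := GQuot.exists_struct p₀ sqp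
  obtain ⟨gQ', _, hker⟩ := GQuot.exists_grp hnL q' sqq
  haveI := hlft inferInstance
  haveI := hqc inferInstance
  let q₁ : Red.bc (AbVar.ext S.1 K) G' ⟶ Q := φ ≫ q
  haveI : IsMonHom q₁ := inferInstance
  haveI : IsIso φ.left := inferInstanceAs (IsIso ((Over.forget _).map φ))
  haveI : Surjective q₁.left := inferInstanceAs (Surjective (φ.left ≫ q.left))
  haveI : Flat q₁.left := inferInstanceAs (Flat (φ.left ≫ q.left))
  haveI : LocallyOfFinitePresentation q₁.left := inferInstanceAs (LocallyOfFinitePresentation (φ.left ≫ q.left))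
  have sq₁ : AlgGrp.IsKernel i' q₁ := by
    refine IsPullback.mk' ?_ (fun T a b e _ => (cancel_mono i').1 e) (fun T a b e => ?_)
    · simp only [q₁, ← Category.assoc, hi']; exact sq.w
    · obtain ⟨c, hc', -⟩ := sq.exists_lift (a ≫ φ) b (by rw [Category.assoc]; exact e)
      exact ⟨c, by rw [← cancel_mono φ, Category.assoc, hi', hc'], toUnit_unique _ _⟩
  have h1 : i' ≫ F.map q' = 1 := by
    rw [← hg', Category.assoc, ← F.map_comp, hker.w, ← Hom.one_def, Functor.map_one, MonObj.comp_one]
  obtain ⟨ψ, _, hψ⟩ := Groth.L08.ChevPerf.exists_hom_desc i' q₁ sq₁ (F.map q') h1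
  haveI : Surjective (F.map q').left :=
    MorphismProperty.of_isPullback (P := @Surjective) (Groth.L08.Albanese.isPullback_bc_map q').flip ‹_›
  haveI : Surjective ψ.left := by
    haveI : Surjective (q₁.left ≫ ψ.left) := by rw [← Over.comp_left, hψ]; infer_instance
    exact Surjective.of_comp q₁.left ψ.left
  haveI : IsSeparated (Red.bc (AbVar.ext S.1 K) Q').hom := AbelianGrp.isSeparated _
  haveI : LocallyOfFiniteType (Red.bc (AbVar.ext S.1 K) Q').hom :=
    inferInstanceAs (LocallyOfFiniteType (pullback.snd Q'.hom (AbVar.ext S.1 K)))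
  have hP : IsProper (Red.bc (AbVar.ext S.1 K) Q').hom := Groth.L08.Chev.isProper_of_surjective ψ
  haveI : MorphismProperty.DescendsAlong @IsProper
      (@Surjective ⊓ @Flat ⊓ @QuasiCompact : MorphismProperty Scheme.{u}) := Groth.Agent.S0086.result
  haveI : IsProper Q'.hom := Groth.L08.ChevPerf.descends (K := K) @IsProper Q' hP
  exact ⟨Q', gQ', q', L, l, inferInstance, inferInstance, hker, inferInstance⟩

end Groth.L08.SmallNorm
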