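import Groth.Agent.L08.SmallNorm.Perf
import Groth.Agent.L08.SmallNorm.Stage
import Groth.Agent.L08.SmallNorm.Conn
import Mathlib.FieldTheory.PurelyInseparable.Exponent
import Mathlib.FieldTheory.PurelyInseparable.PerfectClosure

/-!
# Every algebraic group has a map to a proper group with affine kernel
-/

set_option autoImplicit false
set_option backward.isDefEq.respectTransparency.types false
set_option linter.style.haveILetI false
set_option linter.unusedSectionVars false

universe u

open CategoryTheory CategoryTheory.Limits MonoidalCategory CartesianMonoidalCategory MonObj AlgebraicGeometry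

noncomputable section

namespace Groth.L08.SmallNorm

variable {k : Type u} [Field k]

theorem Fr_spec (p : ℕ) [Fact p.Prime] [CharP k p] (n : ℕ) :
    Fr (Spec (CommRingCat.of k)) p n = Spec.map (CommRingCat.ofHom (iterateFrobenius k p n)) := by
  apply ext_of_isAffine
  ext s
  let ε := Scheme.ΓSpecIso (CommRingCat.of k)
  apply ε.commRingCatIsoToRingEquiv.injective
  have hn := congrArg (fun m => m.hom s)
    (Scheme.ΓSpecIso_naturality (CommRingCat.ofHom (iterateFrobenius k p n)))
  refine Eq.trans ?_ hn.symm
  show ε.hom.hom ((End.asHom (End.of (FrobSch.frob (Spec (CommRingCat.of k)) p) ^ n)).appTop s) =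
    iterateFrobenius k p n (ε.hom.hom s)
  rw [Groth.L04.FrobTwist.appTop_iter_frob, map_pow, iterateFrobenius_def]

/-- a finite purely inseparable extension admits a Frobenius section -/
theorem exists_frob_factor (K : Type u) [Field K] [Algebra k K] [FiniteDimensional k K] [IsPurelyInseparable k K]
    (p : ℕ) [Fact p.Prime] [CharP k p] :
    ∃ (n : ℕ) (d : Spec (CommRingCat.of k) ⟶ Spec (CommRingCat.of K)),
      d ≫ Spec.map (CommRingCat.ofHom (algebraMap k K)) = Fr (Spec (CommRingCat.of k)) p n := by
  haveI : ExpChar k p := ExpChar.prime Fact.out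
  refine ⟨IsPurelyInseparable.exponent k K, Spec.map (CommRingCat.ofHom (IsPurelyInseparable.iterateFrobenius k K p (le_refl _))), ?_⟩
  rw [← Spec.map_comp, Fr_spec]
  congr 1
  ext x
  exact (IsPurelyInseparable.iterateFrobenius_algebraMap K p (le_refl _) x).trans (iterateFrobenius_def p _ x).symm

/-- over a finite purely inseparable extension the property descends -/
theorem HasAff.of_purelyInseparable {K : Type u} [Field K] [Algebra k K] [FiniteDimensional k K] [IsPurelyInseparable k K]
    (p : ℕ) [Fact p.Prime] [CharP k p] {G : Over (Spec (CommRingCat.of k))} [GrpObj G]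
    (h : HasAff (Red.bc (Spec.map (CommRingCat.ofHom (algebraMap k K))) G)) : HasAff G := by
  obtain ⟨n, d, hde⟩ := exists_frob_factor (k := k) K p
  let e := Spec.map (CommRingCat.ofHom (algebraMap k K))
  haveI := isMonHom_tau (k := k) (p := p) d e hde G
  haveI := isAffineHom_tau (k := k) (p := p) d e hde G
  exact HasAff.of_affine_hom (H := Red.bc d (Red.bc e G)) (tauApp (k := k) (p := p) d e hde G) (h.bc d)

/-- every algebraic group has a homomorphism to a proper group with affine kernel -/
theorem hasAff (G : Over (Spec (CommRingCat.of k))) [GrpObj G] [LocallyOfFiniteType G.hom] [QuasiCompact G.hom] :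
    HasAff G := by
  obtain ⟨q, hq⟩ := ExpChar.exists k
  cases hq with
  | zero => exact hasAff_of_perfect G
  | prime hp =>
    haveI : Fact q.Prime := ⟨hp⟩
    let K := ↥(perfectClosure k (AlgebraicClosure k))
    haveI : LocallyOfFiniteType (Red.bc (AbVar.ext k K) G).hom :=
      inferInstanceAs (LocallyOfFiniteType (pullback.snd G.hom (AbVar.ext k K)))
    haveI : QuasiCompact (Red.bc (AbVar.ext k K) G).hom :=
      inferInstanceAs (QuasiCompact (pullback.snd G.hom (AbVar.ext k K)))
    obtain ⟨S, hS⟩ := (hasAff_of_perfect (Red.bc (AbVar.ext k K) G)).exists_stage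
    haveI : FiniteDimensional k S.1 := S.2
    haveI : IsPurelyInseparable k S.1 := IsPurelyInseparable.tower_bot k S.1 K
    exact HasAff.of_purelyInseparable (K := S.1) q hS

/-- pullback of a subgroup along a homomorphism -/
theorem exists_subgroup_pullback {G P H' : Over (Spec (CommRingCat.of k))} [GrpObj G] [GrpObj P] [GrpObj H']
    (f : G ⟶ P) [IsMonHom f] (j : H' ⟶ P) [IsMonHom j] [Mono j] :
    ∃ (_ : GrpObj (pullback f j)), IsMonHom (pullback.fst f j) := by
  have key : ∀ {T : Over (Spec (CommRingCat.of k))} (a : T ⟶ G) (b : T ⟶ H'), b ≫ j = a ≫ f →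
      ∃ z : T ⟶ pullback f j, z ≫ pullback.fst f j = a := fun a b h =>
    ⟨pullback.lift a b h.symm, pullback.lift_fst _ _ _⟩
  refine Groth.L08.exists_grpObj_of_mono (pullback.fst f j) ?_ ?_ ?_
  · exact key η[G] η[H'] (by rw [IsMonHom.one_hom, IsMonHom.one_hom])
  · exact key _ ((fst _ _ ≫ pullback.snd f j) * (snd _ _ ≫ pullback.snd f j)) (by
      simp only [MonObj.mul_comp, Category.assoc, pullback.condition])
  · exact key _ (pullback.snd f j)⁻¹ (by rw [GrpObj.inv_comp, GrpObj.inv_comp, pullback.condition])

/-- the largest proper quotient has affine connected kernel -/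
theorem exists_smallest (G : Over (Spec (CommRingCat.of k))) [GrpObj G] [LocallyOfFiniteType G.hom]
    [QuasiCompact G.hom] :
    ∃ (N : Over (Spec (CommRingCat.of k))) (_ : GrpObj N) (i : N ⟶ G) (A : Over (Spec (CommRingCat.of k)))
      (_ : GrpObj A) (α : G ⟶ A),
      IsMonHom i ∧ IsClosedImmersion i.left ∧ AlgGrp.IsNormalHom i ∧ IsAffine N.left ∧ ConnectedSpace N.left ∧
      IsProper A.hom ∧ IsMonHom α ∧ Surjective α.left ∧ Flat α.left ∧
      AlgGrp.IsKernel i α ∧
      ∀ (B : Over (Spec (CommRingCat.of k))) [GrpObj B] [IsProper B.hom] (q : G ⟶ B) [IsMonHom q], i ≫ q = 1 := by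
  obtain ⟨A, gA, α, _, _, _, _, _, hlarge⟩ := Groth.L08.Albanese.exists_largest G
  obtain ⟨N, gN, i, _, _, -, sq⟩ := AbelianGrp.exists_kernel α
  refine ⟨N, gN, i, A, gA, α, inferInstance, inferInstance, Groth.L08.Albanese.isNormalHom_of_kernel sq, ?_,
    connectedSpace_of_largest i α sq (fun B _ _ q _ => hlarge i sq B q), inferInstance, inferInstance, inferInstance,
    inferInstance, sq, fun B _ _ q _ => hlarge i sq B q⟩
  obtain ⟨B, gB, q, M, m, _, _, sqm, hM⟩ := hasAff G
  haveI := hM
  haveI : IsClosedImmersion m.left := MorphismProperty.of_isPullback (P := @IsClosedImmersion)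
    (sqm.map (Over.forget _)).flip (AbelianGrp.isClosedImmersion_one B)
  obtain ⟨z, hz, -⟩ := sqm.exists_lift i (toUnit N) (by rw [hlarge i sq B q, Hom.one_def])
  haveI : IsClosedImmersion z.left := by
    haveI : IsClosedImmersion (z.left ≫ m.left) := by rw [← Over.comp_left, hz]; infer_instance
    exact IsClosedImmersion.of_comp z.left m.left
  exact isAffine_of_isAffineHom z.left

end Groth.L08.SmallNorm
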