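import Groth.Agent.L08.SmallNorm.Disc
import Groth.Agent.L08.ChevPerf.Descend
import Groth.Agent.L08.Chev.Decomp
import Groth.Agent.L08.AffHull.AntiAffine
import Groth.Agent.L08.GrpDim
import Groth.Agent.L08.SmallNorm.Main
import Groth.Agent.L08.Centre.Rigid
import Groth.Agent.L08.ChevPerf.Perfect

/-!
# The affine part of possibly disconnected smooth groups, intersections with normal subgroups
-/

set_option autoImplicit false
set_option backward.isDefEq.respectTransparency.types false
set_option linter.style.haveILetI false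
set_option linter.unusedSectionVars false

universe u

open CategoryTheory CategoryTheory.Limits MonoidalCategory CartesianMonoidalCategory MonObj AlgebraicGeometry
open Groth.L08.Chev

noncomputable section

namespace Groth.L08.SmallNorm

variable {k : Type u} [Field k]

theorem dim_le_closedImmersion {X Y : Scheme.{u}} (f : X ⟶ Y) [IsClosedImmersion f] :
    topologicalKrullDim X ≤ topologicalKrullDim Y :=
  f.isClosedEmbedding.isInducing.topologicalKrullDim_le

/-- a subgroup with affine quotient surjects onto every abelian variety quotient, any field -/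
theorem surjective_of_affine_quotient' {G A Z Q' : Over (Spec (CommRingCat.of k))} [GrpObj G] [GrpObj A] [GrpObj Z]
    [GrpObj Q'] [LocallyOfFiniteType G.hom] [QuasiCompact G.hom] [IsProper A.hom] [Smooth A.hom]
    [ConnectedSpace A.left] (q : G ⟶ A) [IsMonHom q] [Surjective q.left] [IsAffine Q'.left]
    [LocallyOfFiniteType Q'.hom] (j : Z ⟶ G) [IsMonHom j] [IsClosedImmersion j.left] (π : G ⟶ Q') [IsMonHom π]
    [Surjective π.left] [Flat π.left] [LocallyOfFinitePresentation π.left] (hker : AlgGrp.IsKernel j π) :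
    Surjective (j ≫ q).left := by
  haveI : GeometricallyReduced A.hom := Groth.Agent.AV.geometricallyReduced_of_smooth A.hom
  haveI : GeometricallyIntegral A.hom := Groth.Agent.AV.geometricallyIntegral_of_connected A
  haveI : IsCommMonObj A := isCommMonObj_of_isProper_of_geometricallyIntegral A
  haveI : LocallyOfFiniteType Z.hom := by rw [← Over.w j]; infer_instance
  haveI : QuasiCompact Z.hom := by rw [← Over.w j]; infer_instance
  obtain ⟨C, gC, p, ic, _, _, hpic, _, _, _, _⟩ := Groth.L08.AbelianGrp.exists_image (j ≫ q)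
  haveI : LocallyOfFiniteType C.hom := by rw [← Over.w ic]; infer_instance
  obtain ⟨D, gD, d, _, _, _, _, _, _, _, hkerd⟩ := Groth.L08.AbelianGrp.exists_quotient ic
  haveI : IsProper D.hom := by
    haveI : IsSeparated D.hom := Groth.Agent.AV.isSeparated_of_grpObj D
    exact isProper_of_surjective d
  obtain ⟨-, hD1, hD2⟩ := Groth.Agent.S7983.result k A D d
  haveI := hD1 ‹_›
  haveI := hD2 ‹_›
  have hj : j ≫ q ≫ d = 1 := by
    rw [← Category.assoc, ← hpic, Category.assoc, hkerd.w, ← Hom.one_def, MonObj.comp_one]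
  obtain ⟨g, hgm, hg⟩ := Groth.L08.ChevPerf.exists_hom_desc j π hker (q ≫ d) hj
  haveI := hgm
  haveI : Surjective g.left := by
    haveI : Surjective (π.left ≫ g.left) := by rw [← Over.comp_left, hg, Over.comp_left]; infer_instance
    exact Surjective.of_comp π.left g.left
  haveI : IsAffine D.left := NormalQuot.isAffine_of_surjective_hom g
  have hd : d = 1 := by
    rw [← Category.comp_id d, hom_to_proper_eq_one (𝟙 D), MonObj.comp_one]
  obtain ⟨l, hl, -⟩ := hkerd.exists_lift (𝟙 A) (toUnit A) (by rw [Category.id_comp, hd, Hom.one_def])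
  haveI : Surjective ic.left := by
    haveI : Surjective (l.left ≫ ic.left) := by rw [← Over.comp_left, hl]; infer_instance
    exact Surjective.of_comp l.left ic.left
  rw [← hpic, Over.comp_left]; infer_instance

variable [IsAlgClosed k] {G : Over (Spec (CommRingCat.of k))} [GrpObj G] [Smooth G.hom] [QuasiCompact G.hom]

/-- the quotient of a smooth group by its largest affine part is proper -/
theorem exists_gaff_quotient {N : Over (Spec (CommRingCat.of k))} [GrpObj N] (i : N ⟶ G) [IsMonHom i]
    [IsClosedImmersion i.left] [Smooth N.hom] [ConnectedSpace N.left] [IsAffine N.left] (hN : AlgGrp.IsNormalHom i)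
    (hNmax : ∀ (N' : Over (Spec (CommRingCat.of k))) [GrpObj N'] (i' : N' ⟶ G) [IsMonHom i'] [IsClosedImmersion i'.left]
      [Smooth N'.hom] [ConnectedSpace N'.left] [IsAffine N'.left], AlgGrp.IsNormalHom i' → ∃ f : N' ⟶ N, f ≫ i = i') :
    ∃ (A : Over (Spec (CommRingCat.of k))) (_ : GrpObj A) (q : G ⟶ A), IsMonHom q ∧ Surjective q.left ∧ Flat q.left ∧
      LocallyOfFinitePresentation q.left ∧ LocallyOfFiniteType A.hom ∧ AlgGrp.IsKernel i q ∧ IsProper A.hom := by
  obtain ⟨G₀, gG₀, j, hj⟩ := exists_idComp G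
  haveI := hj.hom
  haveI := hj.closedImm
  haveI := hj.smooth
  haveI := hj.quasiCompact
  haveI := hj.connectedSpace
  haveI : Mono j := Over.mono_of_mono_left j
  haveI : Mono i := Over.mono_of_mono_left i
  obtain ⟨L, gL, l, Q₀, gQ₀, α, _, _, _, _, _, -, _, _, _, _, hker₀, _, _, _⟩ := Chev.exists_chevalley G₀
  haveI : IsClosedImmersion (l ≫ j).left := inferInstanceAs (IsClosedImmersion (l.left ≫ j.left))
  haveI : IsReduced (G ⊗ L).left := by
    haveI : Smooth (G ⊗ L).hom := inferInstanceAs (Smooth (pullback.fst G.hom L.hom ≫ G.hom))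
    exact Groth.Agent.AV.isReduced_of_smooth_field (G ⊗ L).hom
  have hnorm : AlgGrp.IsNormalHom (l ≫ j) := by
    obtain ⟨c, hc⟩ := Groth.L08.ChevPerf.exists_factor_range (l ≫ j)
      (fst G L * (snd G L ≫ l ≫ j) * (fst G L)⁻¹) (conj_range hj l α hker₀)
    intro T g n
    exact ⟨lift g n ≫ c, by
      rw [Category.assoc, hc]; simp only [MonObj.comp_mul, GrpObj.comp_inv, lift_fst, lift_snd_assoc]⟩
  obtain ⟨g, hg⟩ := hNmax L (l ≫ j) hnorm
  obtain ⟨z, hz⟩ := hj.exists_lift_hom i
  haveI : IsMonHom (z ≫ j) := by rw [hz]; infer_instance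
  haveI : IsMonHom z := isMonHom_of_comp z j
  obtain ⟨w, hw, -⟩ := hker₀.exists_lift z (toUnit N) (by rw [hom_to_proper_eq_one (z ≫ α), Hom.one_def])
  obtain ⟨Y, p₀, _, _, _, sqp⟩ := GQuot.exists_quotient_field i
  obtain ⟨A, q, _, _, _, sqq, hlft, -, hqc, -, -⟩ := GQuot.exists_struct p₀ sqp
  obtain ⟨gA, _, hker⟩ := GQuot.exists_grp hN q sqq
  haveI := hlft inferInstance
  haveI := hqc inferInstance
  haveI := Groth.L08.ChevPerf.lfp_left q
  haveI := Groth.L08.ChevPerf.lfp_left α
  exact ⟨A, gA, q, ‹_›, ‹_›, ‹_›, ‹_›, ‹_›, hker, isProper_quotient hj l α hker₀ q (by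
    rw [← Category.assoc, ← hg, Category.assoc, hker.w, ← Hom.one_def, MonObj.comp_one])⟩

/-- the reduced identity component of a normal subgroup is normal -/
theorem exists_red_normal {P : Over (Spec (CommRingCat.of k))} [GrpObj P] (p : P ⟶ G) [IsMonHom p]
    [IsClosedImmersion p.left] (hP : AlgGrp.IsNormalHom p) :
    ∃ (R : Over (Spec (CommRingCat.of k))) (_ : GrpObj R) (r : R ⟶ P), IsMonHom r ∧ IsClosedImmersion r.left ∧
      Smooth R.hom ∧ ConnectedSpace R.left ∧ AlgGrp.IsNormalHom (r ≫ p) ∧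
      topologicalKrullDim R.left = topologicalKrullDim P.left := by
  haveI : LocallyOfFiniteType P.hom := by rw [← Over.w p]; infer_instance
  haveI : QuasiCompact P.hom := by rw [← Over.w p]; infer_instance
  haveI : Mono p := Over.mono_of_mono_left p
  obtain ⟨P₀, gP₀, j, hj⟩ := exists_idComp P
  haveI := hj.hom
  haveI := hj.closedImm
  haveI := hj.openImm
  haveI := hj.connectedSpace
  haveI : LocallyOfFiniteType P₀.hom := by rw [← Over.w j]; infer_instance
  obtain ⟨R, gR, r, _, hred, _, hrange⟩ := MonoClosed.exists_reduced_subgroup (G := P₀) Set.univ isClosed_univ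
    trivial (fun _ _ _ => trivial) (fun _ _ => trivial)
  haveI : Surjective r.left := ⟨Set.range_eq_univ.1 hrange⟩
  haveI : LocallyOfFiniteType R.hom := by rw [← Over.w r]; infer_instance
  haveI hs : Smooth R.hom := by
    letI : GrpObj (Over.mk R.hom) := gR
    exact Groth.L25.GrpDeriv.smooth_of_perfectField R.hom
  let e : R.left ≃ₜ P₀.left :=
    (Equiv.ofBijective _ ⟨r.left.isClosedEmbedding.injective, r.left.surjective⟩).toHomeomorphOfIsInducing
      r.left.isClosedEmbedding.isInducing
  haveI : ConnectedSpace R.left := e.symm.surjective.connectedSpace e.symm.continuous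
  haveI : IsClosedImmersion (r ≫ j).left := inferInstanceAs (IsClosedImmersion (r.left ≫ j.left))
  haveI : IsClosedImmersion (r ≫ j ≫ p).left := inferInstanceAs (IsClosedImmersion (r.left ≫ j.left ≫ p.left))
  haveI : IsReduced (G ⊗ R).left := by
    haveI : Smooth (G ⊗ R).hom := inferInstanceAs (Smooth (pullback.fst G.hom R.hom ≫ G.hom))
    exact Groth.Agent.AV.isReduced_of_smooth_field (G ⊗ R).hom
  haveI : LocallyOfFiniteType (G ⊗ R).hom :=
    inferInstanceAs (LocallyOfFiniteType (pullback.fst G.hom R.hom ≫ G.hom))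
  set C := fst G R * (snd G R ≫ r ≫ j ≫ p) * (fst G R)⁻¹
  have hpts : ∀ t : SP k k ⟶ G ⊗ R, pt (t ≫ C) ∈ Set.range (r ≫ j ≫ p).left := by
    intro t
    let σ := (str R ≫ t ≫ fst G R) * (r ≫ j ≫ p) * (str R ≫ t ≫ fst G R)⁻¹
    haveI : IsMonHom σ := isMonHom_conj (t ≫ fst G R) (r ≫ j ≫ p)
    obtain ⟨z, hz⟩ := hP R (str R ≫ t ≫ fst G R) (r ≫ j)
    have hzσ : z ≫ p = σ := by rw [← hz, Category.assoc r j p]
    haveI : IsMonHom (z ≫ p) := by rw [hzσ]; infer_instance
    haveI : IsMonHom z := isMonHom_of_comp z p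
    obtain ⟨w, hw⟩ := hj.exists_lift_hom z
    have e₁ : t ≫ C = (t ≫ snd G R) ≫ σ := by
      simp only [C, σ, MonObj.comp_mul, GrpObj.comp_inv, Category.assoc]
      rw [← Category.assoc (snd G R) (str R), ← Category.assoc t (snd G R ≫ str R),
        hom_to_SP_ext (t ≫ snd G R ≫ str R) (𝟙 _), Category.id_comp]
    rw [e₁, ← hzσ, ← hw]
    obtain ⟨x, hx⟩ := r.left.surjective (((t ≫ snd G R) ≫ w).left (IsLocalRing.closedPoint k))
    refine ⟨x, ?_⟩
    simp only [pt, Over.comp_left, Scheme.Hom.comp_apply] at hx ⊢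
    rw [hx]
  have hsub : Set.range C.left ⊆ Set.range (r ≫ j ≫ p).left := by
    by_contra hne
    rw [Set.not_subset] at hne
    obtain ⟨_, ⟨x, rfl⟩, hx⟩ := hne
    obtain ⟨t, ht⟩ := exists_point_mem (X := G ⊗ R) (O := C.left ⁻¹' (Set.range (r ≫ j ≫ p).left)ᶜ)
      ((r ≫ j ≫ p).left.isClosedEmbedding.isClosed_range.isOpen_compl.preimage C.left.continuous).isLocallyClosed ⟨x, hx⟩
    exact ht (hpts t)
  obtain ⟨c, hc⟩ := Groth.L08.ChevPerf.exists_factor_range (r ≫ j ≫ p) C hsub
  refine ⟨R, gR, r ≫ j, inferInstance, ‹_›, hs, ‹_›, fun T g n => ⟨lift g n ≫ c, ?_⟩, ?_⟩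
  · rw [Category.assoc r j p, Category.assoc, hc]
    simp only [C, MonObj.comp_mul, GrpObj.comp_inv, lift_fst, lift_snd_assoc]
  refine le_antisymm (dim_le_closedImmersion (r ≫ j).left) ?_
  obtain ⟨n, hall, hn⟩ := GrpDim.exists_dim P
  obtain ⟨ξ, hξ1, hξ⟩ := Groth.L22.FibreDim.exists_maximal_specializes (Groth.L25.Component.one P)
  have hone : Groth.L25.Component.one P ∈ Set.range j.left := by rw [hj.range]; exact mem_connectedComponent
  have hξr : ξ ∈ Set.range j.left := hξ1.mem_open j.left.isOpenEmbedding.isOpen_range hone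
  rw [hn, ← hall ξ hξ]
  have h2 : topologicalKrullDim (closure ({ξ} : Set P.left)) ≤ topologicalKrullDim (Set.range j.left) :=
    Groth.L22.SchemeDim.topologicalKrullDim_mono
      (closure_minimal (Set.singleton_subset_iff.2 hξr) j.left.isClosedEmbedding.isClosed_range)
  refine h2.trans ?_
  rw [← (j.left.isClosedEmbedding.isEmbedding.toHomeomorph).isHomeomorph.topologicalKrullDim_eq]
  exact (e.isHomeomorph.topologicalKrullDim_eq).ge

/-- the affine part of a normal subgroup is, up to finite index, its intersection with the affine part -/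
theorem linearPart_inter {K : Over (Spec (CommRingCat.of k))} [GrpObj K] (j : K ⟶ G) [IsMonHom j]
    [IsClosedImmersion j.left] (hK : AlgGrp.IsNormalHom j)
    {N : Over (Spec (CommRingCat.of k))} [GrpObj N] (i : N ⟶ G) [IsMonHom i]
    [IsClosedImmersion i.left] [Smooth N.hom] [ConnectedSpace N.left] [IsAffine N.left] (hN : AlgGrp.IsNormalHom i)
    (hNmax : ∀ (N' : Over (Spec (CommRingCat.of k))) [GrpObj N'] (i' : N' ⟶ G) [IsMonHom i'] [IsClosedImmersion i'.left]
      [Smooth N'.hom] [ConnectedSpace N'.left] [IsAffine N'.left], AlgGrp.IsNormalHom i' → ∃ f : N' ⟶ N, f ≫ i = i')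
    {NK : Over (Spec (CommRingCat.of k))} [GrpObj NK] (iK : NK ⟶ K) [IsMonHom iK] [IsClosedImmersion iK.left]
    [Smooth NK.hom] [ConnectedSpace NK.left] [IsAffine NK.left]
    (hNKmax : ∀ (N' : Over (Spec (CommRingCat.of k))) [GrpObj N'] (i' : N' ⟶ K) [IsMonHom i'] [IsClosedImmersion i'.left]
      [Smooth N'.hom] [ConnectedSpace N'.left] [IsAffine N'.left], AlgGrp.IsNormalHom i' → ∃ f : N' ⟶ NK, f ≫ iK = i') :
    (∃ g : NK ⟶ N, g ≫ i = iK ≫ j) ∧
      topologicalKrullDim NK.left = topologicalKrullDim ↥(pullback j.left i.left) := by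
  haveI : Mono i := Over.mono_of_mono_left i
  haveI : Mono j := Over.mono_of_mono_left j
  obtain ⟨A, gA, q, _, _, _, _, _, hker, _⟩ := exists_gaff_quotient i hN hNmax
  obtain ⟨g, hg, -⟩ := hker.exists_lift (iK ≫ j) (toUnit NK) (by
    rw [Category.assoc, ← Category.assoc iK, hom_to_proper_eq_one ((iK ≫ j) ≫ q), Hom.one_def])
  refine ⟨⟨g, hg⟩, ?_⟩
  obtain ⟨gP, hfstm⟩ := exists_subgroup_pullback j i
  haveI := hfstm
  let p : pullback j i ⟶ G := pullback.fst j i ≫ j
  have sqL := (IsPullback.of_hasPullback j i).map (Over.forget _)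
  haveI : IsClosedImmersion (pullback.fst j i).left :=
    MorphismProperty.of_isPullback (P := @IsClosedImmersion) sqL.flip ‹_›
  haveI : IsClosedImmersion (pullback.snd j i).left :=
    MorphismProperty.of_isPullback (P := @IsClosedImmersion) sqL ‹_›
  haveI : IsClosedImmersion p.left := inferInstanceAs (IsClosedImmersion ((pullback.fst j i).left ≫ j.left))
  have hp : AlgGrp.IsNormalHom p := by
    intro T t n
    obtain ⟨a, ha⟩ := hK T t (n ≫ pullback.fst j i)
    obtain ⟨b, hb⟩ := hN T t (n ≫ pullback.snd j i)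
    refine ⟨pullback.lift a b ?_, ?_⟩
    · rw [← ha, ← hb, Category.assoc, Category.assoc, pullback.condition]
    · rw [pullback.lift_fst_assoc, ← ha, Category.assoc]
  obtain ⟨R, gR, r, _, _, _, _, hRn, hdim⟩ := exists_red_normal p hp
  haveI : IsClosedImmersion (r ≫ pullback.fst j i).left :=
    inferInstanceAs (IsClosedImmersion (r.left ≫ (pullback.fst j i).left))
  haveI : IsClosedImmersion (r ≫ pullback.snd j i).left :=
    inferInstanceAs (IsClosedImmersion (r.left ≫ (pullback.snd j i).left))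
  haveI : IsAffine R.left := isAffine_of_isAffineHom (r ≫ pullback.snd j i).left
  obtain ⟨f, hf⟩ := hNKmax R (r ≫ pullback.fst j i) fun T t n => by
    obtain ⟨n', hn'⟩ := hRn T (t ≫ j) n
    refine ⟨n', ?_⟩
    rw [← cancel_mono j, MonObj.mul_comp, MonObj.mul_comp, GrpObj.inv_comp]
    simpa only [p, Category.assoc] using hn'
  haveI : IsClosedImmersion f.left := by
    haveI : IsClosedImmersion (f.left ≫ iK.left) := by rw [← Over.comp_left, hf]; infer_instance
    exact IsClosedImmersion.of_comp f.left iK.left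
  let z : NK ⟶ pullback j i := pullback.lift iK g hg.symm
  haveI : IsClosedImmersion z.left := by
    haveI : IsClosedImmersion (z.left ≫ (pullback.fst j i).left) := by
      rw [← Over.comp_left, pullback.lift_fst]; infer_instance
    exact IsClosedImmersion.of_comp z.left (pullback.fst j i).left
  have e := (sqL.isoPullback.hom.homeomorph).isHomeomorph.topologicalKrullDim_eq
  exact (le_antisymm (dim_le_closedImmersion z.left) (hdim ▸ dim_le_closedImmersion f.left)).trans e

end Groth.L08.SmallNorm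

namespace Groth.L08.SmallNorm

variable {k : Type u} [Field k]

/-- `G = G_ant · G_aff` over a perfect field -/
theorem ant_mul_aff [PerfectField k] {G : Over (Spec (CommRingCat.of k))} [GrpObj G] [Smooth G.hom]
    [QuasiCompact G.hom] [ConnectedSpace G.left]
    {N : Over (Spec (CommRingCat.of k))} [GrpObj N] (i : N ⟶ G) [IsMonHom i]
    [IsClosedImmersion i.left] [Smooth N.hom] [ConnectedSpace N.left] [IsAffine N.left]
    (hNmax : ∀ (N' : Over (Spec (CommRingCat.of k))) [GrpObj N'] (i' : N' ⟶ G) [IsMonHom i'] [IsClosedImmersion i'.left]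
      [Smooth N'.hom] [ConnectedSpace N'.left] [IsAffine N'.left], AlgGrp.IsNormalHom i' → ∃ f : N' ⟶ N, f ≫ i = i')
    {M : Over (Spec (CommRingCat.of k))} [GrpObj M] (j : M ⟶ G) [IsMonHom j] [IsClosedImmersion j.left]
    (hM : Function.Bijective ((Scheme.ΓSpecIso (CommRingCat.of k)).inv ≫ M.hom.appTop).hom)
    (hMmax : ∀ (M' : Over (Spec (CommRingCat.of k))) [GrpObj M'] (j' : M' ⟶ G) [IsMonHom j'] [IsClosedImmersion j'.left],
      Function.Bijective ((Scheme.ΓSpecIso (CommRingCat.of k)).inv ≫ M'.hom.appTop).hom → ∃ f : M' ⟶ M, f ≫ j = j') :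
    IsMonHom ((j ⊗ₘ i) ≫ μ[G]) ∧ Surjective ((j ⊗ₘ i) ≫ μ[G]).left := by
  haveI := (bijective_iff_isIso M).1 hM
  haveI : LocallyOfFiniteType M.hom := by rw [← Over.w j]; infer_instance
  haveI : QuasiCompact M.hom := by rw [← Over.w j]; infer_instance
  refine ⟨isMonHom_mul j i fun T a m => ?_, ?_⟩
  · have hc := Centre.central (H := M) (G := G) (ConcreteCategory.bijective_of_isIso M.hom.appTop).2 j
    have := congrArg (fun e => lift a (m ≫ i) ≫ e) hc
    simpa only [MonObj.comp_mul, lift_fst_assoc, lift_snd] using this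
  obtain ⟨L, gL, l, Q, gQ, q, _, _, _, _, _, hLn, _, _, _, _, hker, _, _, _⟩ := ChevPerf.exists_chevalley G
  obtain ⟨g, hg⟩ := hNmax L l hLn
  haveI := AffHull.compactSpace (G := G)
  haveI := AffHull.quasiSeparatedSpace (G := G)
  obtain ⟨_, _, _, _⟩ := AffHull.hull_props (G := G)
  obtain ⟨K, gK, κ, _, _, -, sq⟩ := AbelianGrp.exists_kernel (AffHull.rho G)
  haveI : IsAffine (AffHull.hull G).left := inferInstanceAs (IsAffine (Spec _))
  haveI hsK : Surjective (κ ≫ q).left := surjective_of_affine_quotient' q κ (AffHull.rho G) sq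
  haveI := AffHull.isIso_appTop_kernel κ sq
  obtain ⟨f, hf⟩ := hMmax K κ ((bijective_iff_isIso K).2 inferInstance)
  have hsj : Surjective (j ≫ q).left := by
    haveI : Surjective (f.left ≫ (j ≫ q).left) := by
      rw [← Over.comp_left, ← Category.assoc, hf]; exact hsK
    exact Surjective.of_comp f.left _
  haveI := (surjective_mul_of_surjective l j q hker hsj).2
  haveI : Surjective ((M ◁ g).left ≫ ((j ⊗ₘ i) ≫ μ[G]).left) := by
    rw [← Over.comp_left, ← id_tensorHom, tensorHom_comp_tensorHom_assoc, Category.id_comp, hg]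
    infer_instance
  exact Surjective.of_comp (M ◁ g).left _

end Groth.L08.SmallNorm
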