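import Groth.Agent.L08.SmallNorm.FinFrob
import Groth.Agent.L08.SmallNorm.AntiAffIsog
import Groth.Agent.L08.SmallNorm.Frob
import Groth.Agent.L08.SmallNorm.GaffFun
import Groth.Agent.L26.AV.Degree
import Groth.Agent.L26.AV.FrobRH
import Groth.Agent.L26.AV.HopfFrobenius
import Groth.Agent.L04.Corr.FrobTwist
import Groth.Agent.L26.Poincare.Reducibility

/-!
# Anti-affine groups over finite fields are proper
-/

set_option autoImplicit false
set_option backward.isDefEq.respectTransparency.types false
set_option linter.style.haveILetI false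
set_option linter.unusedSectionVars false

universe u

open CategoryTheory CategoryTheory.Limits MonoidalCategory CartesianMonoidalCategory MonObj AlgebraicGeometry
open Groth.L08.Chev

noncomputable section

namespace Groth.L08.SmallNorm

variable {k : Type u} [Field k] [Finite k] (p n : ℕ) [Fact p.Prime] [CharP k p] (hq : Nat.card k = p ^ n)

include hq in
theorem pow_card_pow (m : ℕ) (c : k) : c ^ p ^ (n * m) = c := by
  rw [pow_mul, ← hq]
  induction m with
  | zero => simp
  | succ m ih =>
    haveI : Fintype k := Fintype.ofFinite k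
    rw [pow_succ, pow_mul, ih, Nat.card_eq_fintype_card, FiniteField.pow_card]

include hq in
theorem Fr_spec_eq_id (m : ℕ) :
    Fr (Spec (CommRingCat.of k)) p (n * m) = 𝟙 _ := by
  rw [Fr_spec, ← Spec.map_id]
  congr 1
  ext c
  exact (iterateFrobenius_def p _ c).trans (pow_card_pow p n hq m c)

/-- the `q ^ m`-power Frobenius endomorphism over a field with `q` elements -/
def frobEnd (m : ℕ) (X : Over (Spec (CommRingCat.of k))) : X ⟶ X :=
  letI := isCharP_left (p := p) X
  Over.homMk (Fr X.left p (n * m)) (by rw [Fr_comp, Fr_spec_eq_id p n hq, Category.comp_id])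

theorem frobEnd_left (m : ℕ) (X : Over (Spec (CommRingCat.of k))) :
    letI := isCharP_left (p := p) X
    (frobEnd p n hq m X).left = Fr X.left p (n * m) := rfl

theorem frobEnd_natural (m : ℕ) {X Y : Over (Spec (CommRingCat.of k))} (f : X ⟶ Y) :
    frobEnd p n hq m X ≫ f = f ≫ frobEnd p n hq m Y := by
  letI := isCharP_left (p := p) X
  letI := isCharP_left (p := p) Y
  exact Over.OverMorphism.ext (Fr_comp f.left)

instance isMonHom_frobEnd (m : ℕ) (G : Over (Spec (CommRingCat.of k))) [GrpObj G] :
    IsMonHom (frobEnd p n hq m G) := by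
  have h1 : frobEnd p n hq m (𝟙_ (Over (Spec (CommRingCat.of k)))) = 𝟙 _ := toUnit_unique _ _
  have h2 : frobEnd p n hq m (G ⊗ G) = frobEnd p n hq m G ⊗ₘ frobEnd p n hq m G := by
    apply CartesianMonoidalCategory.hom_ext
    · rw [frobEnd_natural, tensorHom_fst]
    · rw [frobEnd_natural, tensorHom_snd]
  exact ⟨by rw [← frobEnd_natural, h1, Category.id_comp], by rw [← frobEnd_natural, h2]⟩

/-- `(F ^ m - q ^ m) p ^ r` -/
def killer (m r : ℕ) (G : Over (Spec (CommRingCat.of k))) [GrpObj G] : G ⟶ G :=
  (frobEnd p n hq m G * (𝟙 G ^ (Nat.card k ^ m))⁻¹) ^ (p ^ r)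

theorem killer_natural (m r : ℕ) {G H : Over (Spec (CommRingCat.of k))} [GrpObj G] [GrpObj H] (f : G ⟶ H)
    [IsMonHom f] : killer p n hq m r G ≫ f = f ≫ killer p n hq m r H := by
  simp only [killer, MonObj.pow_comp, MonObj.comp_pow, MonObj.mul_comp, MonObj.comp_mul, GrpObj.inv_comp,
    GrpObj.comp_inv, Category.id_comp, Category.comp_id, frobEnd_natural p n hq m f]

theorem isMonHom_inv {G : Over (Spec (CommRingCat.of k))} [GrpObj G] [IsCommMonObj G] (f : G ⟶ G) [IsMonHom f] :
    IsMonHom f⁻¹ := by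
  rw [Hom.inv_def]; infer_instance

theorem isMonHom_killer (m r : ℕ) (G : Over (Spec (CommRingCat.of k))) [GrpObj G] [IsCommMonObj G] :
    IsMonHom (killer p n hq m r G) := by
  haveI := Groth.Agent.AV.Isogeny.isMonHom_pow (A := G) (Nat.card k ^ m)
  haveI := isMonHom_inv (𝟙 G ^ (Nat.card k ^ m))
  haveI : IsMonHom (frobEnd p n hq m G * (𝟙 G ^ (Nat.card k ^ m))⁻¹) :=
    Groth.Agent.Poincare.Reducibility.isMonHom_mul _ _
  haveI := Groth.Agent.AV.Isogeny.isMonHom_pow (A := G) (p ^ r)
  rw [killer, show (frobEnd p n hq m G * (𝟙 G ^ (Nat.card k ^ m))⁻¹) ^ (p ^ r) =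
    (frobEnd p n hq m G * (𝟙 G ^ (Nat.card k ^ m))⁻¹) ≫ (𝟙 G ^ (p ^ r)) by rw [MonObj.comp_pow, Category.comp_id]]
  infer_instance

/-- commutative smooth affine groups are killed -/
theorem exists_killer (N : Over (Spec (CommRingCat.of k))) [GrpObj N] [IsCommMonObj N] [IsAffine N.left]
    [Smooth N.hom] : ∃ m r : ℕ, 0 < m ∧ killer p n hq m r N = 1 := by
  haveI : LocallyOfFiniteType N.hom := inferInstance
  haveI : IsSeparated N.hom := Groth.Agent.AV.isSeparated_of_grpObj N
  haveI : IsReduced N.left := Groth.Agent.AV.isReduced_of_smooth_field N.hom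
  obtain ⟨H₀, ⟨eG⟩⟩ := (essImage_hopfSpec (G := Grp.mk N)).mpr ‹IsAffine N.left›
  let A : Type u := H₀.unop
  let X' := (Spec (CommRingCat.of A)).asOver (Spec (CommRingCat.of k))
  let φ : X' ⟶ N := eG.hom.hom.hom
  let ψ : N ⟶ X' := eG.inv.hom.hom
  have h1 : φ ≫ ψ = 𝟙 _ := congrArg (fun f => f.hom.hom) eG.hom_inv_id
  have h2 : ψ ≫ φ = 𝟙 N := congrArg (fun f => f.hom.hom) eG.inv_hom_id
  haveI : IsMonHom φ := eG.hom.hom.isMonHom_hom
  haveI : IsIso φ := ⟨ψ, h1, h2⟩
  haveI : IsIso φ.left := inferInstanceAs (IsIso ((Over.forget _).map φ))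
  haveI hft : LocallyOfFiniteType X'.hom := by rw [← Over.w φ]; infer_instance
  haveI : Algebra.FiniteType k A := by
    change LocallyOfFiniteType (Spec.map (CommRingCat.ofHom (algebraMap k A))) at hft
    rwa [HasRingHomProperty.Spec_iff (P := @LocallyOfFiniteType), CommRingCat.hom_ofHom,
      RingHom.finiteType_algebraMap] at hft
  haveI : IsReduced X'.left := isReduced_of_isOpenImmersion φ.left
  haveI : IsCommMonObj X' := ⟨by
    rw [← cancel_mono φ, Category.assoc, IsMonHom.mul_hom, ← Category.assoc,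
      ← BraidedCategory.braiding_naturality, Category.assoc, IsCommMonObj.mul_comm]⟩
  haveI : Coalgebra.IsCocomm k A := Groth.Agent.AV.HopfFrobenius.isCocomm_of_isCommMonObj
  haveI : IsSeparated X'.hom := Groth.Agent.AV.isSeparated_of_grpObj X'
  let K := AlgebraicClosure k
  haveI : CharP K p := charP_of_injective_algebraMap (algebraMap k K).injective p
  obtain ⟨r, m, hm, hkill⟩ := exists_frob_kills_alg (k := k) p n (A := A) (K := K) hq
  refine ⟨m, r, hm, ?_⟩
  have hX : killer p n hq m r X' = 1 := by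
    refine Groth.Agent.AV.Isogeny.ext_of_points K _ _ fun P => ?_
    rw [MonObj.comp_one]
    obtain ⟨g, hg⟩ := (Spec.mapMulEquiv (R := k) (S := A) (T := K)).surjective P
    let g' : WithConv (A →ₐ[k] K) := WithConv.toConv
      { toRingHom := (iterateFrobenius K p (n * m)).comp g.ofConv.toRingHom
        commutes' := fun c => by
          show iterateFrobenius K p (n * m) (g.ofConv (algebraMap k A c)) = _
          rw [g.ofConv.commutes, iterateFrobenius_def, ← map_pow, pow_card_pow p n hq m c] }
    have hPF : Spec.mapMulEquiv g' = P ≫ frobEnd p n hq m X' := by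
      rw [← frobEnd_natural, ← hg]
      refine Over.OverMorphism.ext ?_
      letI := isCharP_left (p := p) ((Spec (CommRingCat.of K)).asOver (Spec (CommRingCat.of k)))
      show Spec.map (CommRingCat.ofHom ((iterateFrobenius K p (n * m)).comp g.ofConv.toRingHom)) =
        Fr (Spec (CommRingCat.of K)) p (n * m) ≫ Spec.map (CommRingCat.ofHom g.ofConv.toRingHom)
      rw [Fr_spec, ← Spec.map_comp]
      rfl
    have e := congrArg (Spec.mapMulEquiv (R := k) (S := A) (T := K)) (hkill g g' fun x => by
      show iterateFrobenius K p (n * m) (g.ofConv x) = _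
      rw [iterateFrobenius_def, pow_mul, ← hq])
    rw [map_pow, map_pow, hPF, hg] at e
    simp only [killer, MonObj.comp_pow, MonObj.comp_mul, GrpObj.comp_inv, Category.comp_id]
    rw [mul_pow, inv_pow, ← pow_mul]
    exact mul_inv_eq_one.2 e
  rw [← Category.id_comp (killer p n hq m r N), ← h2, Category.assoc, ← killer_natural p n hq m r φ, hX,
    MonObj.one_comp, MonObj.comp_one]

include hq in
/-- an abelian variety of positive dimension has Frobenius different from `q` -/
theorem subsingleton_of_frob_eq_pow (A : Over (Spec (CommRingCat.of k))) [GrpObj A] [IsProper A.hom] [Smooth A.hom]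
    [ConnectedSpace A.left] (m : ℕ) (hm : 0 < m) (h : frobEnd p n hq m A = 𝟙 A ^ (Nat.card k ^ m)) :
    Subsingleton A.left := by
  letI := isCharP_left (p := p) A
  haveI : GeometricallyReduced A.hom := Groth.Agent.AV.geometricallyReduced_of_smooth A.hom
  haveI : GeometricallyIntegral A.hom := Groth.Agent.AV.geometricallyIntegral_of_connected A
  haveI : AlgebraicGeometry.IsIntegral A.left := GeometricallyIntegral.isIntegral_of_subsingleton A.hom
  letI : A.left.Over (Spec (CommRingCat.of k)) := ⟨A.hom⟩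
  haveI : IsProper (A.left ↘ Spec (CommRingCat.of k)) := inferInstanceAs (IsProper A.hom)
  have hQ : 1 < Nat.card k ^ m := Nat.one_lt_pow hm.ne' Finite.one_lt_card
  obtain ⟨g, -, hg⟩ := Groth.L08.GrpDim.exists_dim A
  obtain ⟨_, _, _, _⟩ := Groth.Agent.AV.Degree.isogeny_pow (A := A) (n := Nat.card k ^ m) hQ.le
  obtain ⟨L, hL, -⟩ := Groth.Agent.AV.Degree.exists_isAmple_symmetric A
  have hle : ∀ U : A.left.Opens, U ≤ (frobEnd p n hq m A).left ⁻¹ᵁ U := fun U => (Fr_preimage A.left U).ge
  have hpp := Groth.Agent.AV.FrobRH.pullPow_of_frobenius (frobEnd p n hq m A) (Nat.card k ^ m) hle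
    (fun U s => by
      rw [hq, ← pow_mul]
      exact (Groth.L04.FrobTwist.iter_frob_apply A.left p (n * m)).2 U _ s)
  have hN : Nonempty ((Scheme.Modules.pullback (𝟙 A ^ (Nat.card k ^ m)).left).obj L ≅
      CohB1.tensorPow L (Nat.card k ^ m)) := by
    refine (PicGrp.cl_eq_cl_iff _ _).1 ?_
    rw [Groth.L08.Cube.cl_tensorPow, ← hpp L hL.1, ← h]
    rfl
  have e1 := Groth.Agent.AV.Degree.finrank_eq_pow hg (𝟙 A ^ (Nat.card k ^ m)).left (Over.w _) L hL _ hN
  rw [Groth.Agent.AV.Degree.finrank_pow hQ.le hg] at e1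
  have hg0 : g = 0 := by
    have := Nat.pow_right_injective hQ e1
    omega
  subst hg0
  exact subsingleton_of_dim_le_zero (by rw [hg, Nat.cast_zero])

include hq in
/-- `F ^ m - q ^ m` is surjective on abelian varieties -/
theorem surjective_killer (A : Over (Spec (CommRingCat.of k))) [GrpObj A] [IsProper A.hom] [Smooth A.hom]
    [ConnectedSpace A.left] (m r : ℕ) (hm : 0 < m) : Surjective (killer p n hq m r A).left := by
  haveI : GeometricallyReduced A.hom := Groth.Agent.AV.geometricallyReduced_of_smooth A.hom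
  haveI : GeometricallyIntegral A.hom := Groth.Agent.AV.geometricallyIntegral_of_connected A
  haveI : IsCommMonObj A := isCommMonObj_of_isProper_of_geometricallyIntegral A
  haveI := Groth.Agent.AV.Isogeny.isMonHom_pow (A := A) (Nat.card k ^ m)
  haveI := isMonHom_inv (𝟙 A ^ (Nat.card k ^ m))
  set δ := frobEnd p n hq m A * (𝟙 A ^ (Nat.card k ^ m))⁻¹ with hδ
  haveI : IsMonHom δ := Groth.Agent.Poincare.Reducibility.isMonHom_mul _ _
  haveI : Surjective δ.left := by
    obtain ⟨C, gC, pC, j, _, _, hpj, _, _, _, _⟩ := Groth.L08.AbelianGrp.exists_image δ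
    obtain ⟨D, gD, d, _, _, _, _, _, _, _, hkerd⟩ := Groth.L08.AbelianGrp.exists_quotient j
    haveI : IsSeparated D.hom := Groth.Agent.AV.isSeparated_of_grpObj D
    haveI : IsProper D.hom := isProper_of_surjective d
    obtain ⟨-, hD1, hD2⟩ := Groth.Agent.S7983.result k A D d
    haveI := hD1 ‹_›
    haveI := hD2 ‹_›
    haveI : Epi d := Over.epi_of_epi_left d
    have hδd : δ ≫ d = 1 := by
      rw [← hpj, Category.assoc, hkerd.w, ← Hom.one_def, MonObj.comp_one]
    rw [hδ, MonObj.mul_comp, GrpObj.inv_comp, mul_inv_eq_one, frobEnd_natural, MonObj.pow_comp, Category.id_comp]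
      at hδd
    have hD : frobEnd p n hq m D = 𝟙 D ^ (Nat.card k ^ m) := by
      rw [← cancel_epi d, hδd, MonObj.comp_pow, Category.comp_id]
    haveI := subsingleton_of_frob_eq_pow p n hq D m hm hD
    haveI : Nonempty D.left := ⟨η[D].left (IsLocalRing.closedPoint k)⟩
    haveI : IsAffine D.left := AffHull.isAffine_of_subsingleton
    have hd : d = 1 := by rw [← Category.comp_id d, hom_to_proper_eq_one (𝟙 D), MonObj.comp_one]
    obtain ⟨l, hl, -⟩ := hkerd.exists_lift (𝟙 A) (toUnit A) (by rw [Category.id_comp, hd, Hom.one_def])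
    haveI : Surjective j.left := by
      haveI : Surjective (l.left ≫ j.left) := by rw [← Over.comp_left, hl]; infer_instance
      exact Surjective.of_comp l.left j.left
    rw [← hpj, Over.comp_left]; infer_instance
  haveI : Surjective (𝟙 A ^ (p ^ r)).left :=
    Groth.L08.Cube.surjective_pow (A := A) (Nat.one_le_pow _ _ (Fact.out : p.Prime).pos)
  rw [killer, ← hδ, show δ ^ (p ^ r) = δ ≫ (𝟙 A ^ (p ^ r)) by rw [MonObj.comp_pow, Category.comp_id], Over.comp_left]
  infer_instance

omit [Finite k] in
/-- **Anti-affine groups over finite fields are proper.** -/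
theorem isProper_of_antiAffine_finite [Finite k] (G : Over (Spec (CommRingCat.of k))) [GrpObj G]
    [LocallyOfFiniteType G.hom] [QuasiCompact G.hom] (hO : IsIso G.hom.appTop) : IsProper G.hom := by
  obtain ⟨p, hchar⟩ := CharP.exists k
  haveI := hchar
  haveI : Fintype k := Fintype.ofFinite k
  obtain ⟨n, hp, hq'⟩ := FiniteField.card k p
  haveI : Fact p.Prime := ⟨hp⟩
  have hq : Nat.card k = p ^ (n : ℕ) := by rw [Nat.card_eq_fintype_card, hq']
  haveI := AffHull.smooth_of_antiAffine G hO
  haveI := AffHull.connectedSpace_of_antiAffine G hO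
  haveI := isCommMonObj_of_antiAffine G hO
  obtain ⟨L, gL, l, Q, gQ, q, _, _, _, _, _, -, _, _, _, _, hker, _, _, _⟩ := Groth.L08.ChevPerf.exists_chevalley G
  haveI : Mono l := Over.mono_of_mono_left l
  haveI : IsCommMonObj L := ⟨by
    rw [← cancel_mono l, Category.assoc, IsMonHom.mul_hom, ← Category.assoc,
      ← BraidedCategory.braiding_naturality, Category.assoc, IsCommMonObj.mul_comm]⟩
  obtain ⟨m, r, hm, hL⟩ := exists_killer p n hq L
  haveI := isMonHom_killer p n hq m r G
  obtain ⟨s, _, hs⟩ := Groth.L08.ChevPerf.exists_hom_desc l q hker (killer p n hq m r G) (by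
    rw [← killer_natural, hL, MonObj.one_comp])
  haveI : Epi q := Over.epi_of_epi_left q
  have hsq : s ≫ q = killer p n hq m r Q := by
    rw [← cancel_epi q, ← Category.assoc, hs, killer_natural]
  obtain ⟨C, gC, pc, j, _, _, hpj, _, _, _, _⟩ := Groth.L08.AbelianGrp.exists_image s
  haveI : LocallyOfFiniteType C.hom := by rw [← Over.w j]; infer_instance
  haveI : IsSeparated C.hom := Groth.Agent.AV.isSeparated_of_grpObj C
  haveI : IsProper C.hom := isProper_of_surjective pc
  have hjq : Surjective (j ≫ q).left := by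
    haveI := surjective_killer p n hq Q m r hm
    haveI : Surjective (pc.left ≫ (j ≫ q).left) := by
      rw [← Over.comp_left, ← Category.assoc, hpj, hsq]; infer_instance
    exact Surjective.of_comp pc.left _
  obtain ⟨B, gB, π, _, _, _, _, _, _, _, hkerπ⟩ := Groth.L08.AbelianGrp.exists_quotient j
  haveI : Surjective (l ≫ π).left :=
    surjective_of_surjective_mul j l π (by rw [hkerπ.w, Hom.one_def])
      (surjective_mul_of_surjective l j q hker hjq).2
  haveI : IsAffine B.left := NormalQuot.isAffine_of_surjective_hom (l ≫ π)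
  have hπ : π = 1 := AffHull.hom_eq_one hO π
  obtain ⟨w, hw, -⟩ := hkerπ.exists_lift (𝟙 G) (toUnit G) (by rw [hπ, MonObj.comp_one, Hom.one_def])
  haveI : Surjective j.left := by
    haveI : Surjective (w.left ≫ j.left) := by rw [← Over.comp_left, hw, Over.id_left]; infer_instance
    exact Surjective.of_comp w.left j.left
  haveI : IsSeparated G.hom := Groth.Agent.AV.isSeparated_of_grpObj G
  exact isProper_of_surjective j

end Groth.L08.SmallNorm
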