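import Groth.Agent.L08.SmallNorm.SepStable
import Groth.Agent.S8004
import Groth.Agent.S7982
import Groth.Agent.S7983
import Mathlib.AlgebraicGeometry.Morphisms.LocalFlatDescent

/-!
# The largest smooth connected affine normal subgroup commutes with separable extensions
-/

set_option autoImplicit false
set_option backward.isDefEq.respectTransparency.types false
set_option linter.style.haveILetI false
set_option linter.unusedSectionVars false

universe u

open CategoryTheory CategoryTheory.Limits MonoidalCategory CartesianMonoidalCategory MonObj AlgebraicGeometry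
open Groth.L08.Chev

noncomputable section

namespace Groth.L08.SmallNorm

theorem isPullback_map_gen {S S' : Scheme.{u}} (t : S' ⟶ S) {D A : Over S} (d : D ⟶ A) :
    IsPullback ((Over.pullback t).map d).left (pullback.fst D.hom t) (pullback.fst A.hom t) d.left := by
  have hl : ((Over.pullback t).map d).left ≫ pullback.fst A.hom t = pullback.fst D.hom t ≫ d.left :=
    pullback.lift_fst _ _ _
  refine IsPullback.of_bot ?_ hl.symm (IsPullback.of_hasPullback A.hom t) |>.flip
  rw [show d.left ≫ A.hom = D.hom from Over.w d,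
    show ((Over.pullback t).map d).left ≫ pullback.snd A.hom t = pullback.snd D.hom t from
      Over.w ((Over.pullback t).map d)]
  exact IsPullback.of_hasPullback D.hom t

/-- base change preserves normality -/
theorem isNormalHom_bc {S S' : Scheme.{u}} (t : S' ⟶ S) {G L : Over S} [GrpObj G] [GrpObj L] (l : L ⟶ G)
    (h : AlgGrp.IsNormalHom l) :
    AlgGrp.IsNormalHom ((Over.pullback t).map l : Red.bc t L ⟶ Red.bc t G) := by
  intro T g n
  let F := Over.pullback t
  let adj := Over.mapPullbackAdj t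
  obtain ⟨n', hn'⟩ := h ((Over.map t).obj T) ((adj.homEquiv _ _).symm g) ((adj.homEquiv _ _).symm n)
  refine ⟨adj.homEquiv _ _ n', ?_⟩
  have e := congrArg (fun m => adj.unit.app T ≫ F.map m) hn'
  simp only [Functor.map_mul, Functor.map_comp, MonObj.comp_mul] at e
  rw [show F.map (((adj.homEquiv _ _).symm g)⁻¹) = (F.map ((adj.homEquiv _ _).symm g))⁻¹ from
    map_inv (Functor.homMonoidHom F) _, GrpObj.comp_inv] at e
  have hu : ∀ {Y : Over S} (x : T ⟶ F.obj Y), adj.unit.app T ≫ F.map ((adj.homEquiv T Y).symm x) = x := fun {Y} x => by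
    exact (adj.homEquiv_unit (X := T) (Y := Y) (f := (adj.homEquiv T Y).symm x)).symm.trans
      ((adj.homEquiv T Y).apply_symm_apply x)
  rw [hu, ← Category.assoc, hu, ← Category.assoc] at e
  rw [Adjunction.homEquiv_unit]
  exact e

theorem isNormalHom_comp_iso {S : Scheme.{u}} {G G' L : Over S} [GrpObj G] [GrpObj G'] [GrpObj L] (l : L ⟶ G)
    (φ : G ⟶ G') [IsMonHom φ] [IsIso φ] (h : AlgGrp.IsNormalHom l) : AlgGrp.IsNormalHom (l ≫ φ) := by
  intro T g n
  obtain ⟨n', hn'⟩ := h T (g ≫ CategoryTheory.inv φ) n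
  refine ⟨n', ?_⟩
  have e := congrArg (fun m => m ≫ φ) hn'
  simp only [MonObj.mul_comp, GrpObj.inv_comp, Category.assoc, IsIso.inv_hom_id, Category.comp_id] at e
  exact e

variable {k : Type u} [Field k]

/-- a largest smooth connected affine normal subgroup exists -/
theorem exists_gaff (G : Over (Spec (CommRingCat.of k))) [GrpObj G] [LocallyOfFiniteType G.hom] [QuasiCompact G.hom] :
    ∃ (N : Over (Spec (CommRingCat.of k))) (_ : GrpObj N) (i : N ⟶ G), (IsMonHom i ∧ IsClosedImmersion i.left ∧
      Smooth N.hom ∧ ConnectedSpace ↥N.left ∧ IsAffine N.left ∧ AlgGrp.IsNormalHom i) ∧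
      (∀ (N' : Over (Spec (CommRingCat.of k))) [GrpObj N'] (i' : N' ⟶ G) [IsMonHom i'] [IsClosedImmersion i'.left]
        [Smooth N'.hom] [ConnectedSpace ↥N'.left] [IsAffine N'.left], AlgGrp.IsNormalHom i' → ∃ f : N' ⟶ N, f ≫ i = i') := by
  let E₀ := 𝟙_ (Over (Spec (CommRingCat.of k)))
  haveI : IsClosedImmersion η[G].left := Groth.L08.AbelianGrp.isClosedImmersion_one G
  haveI : Smooth E₀.hom := inferInstanceAs (Smooth (𝟙 (Spec (CommRingCat.of k))))
  haveI : ConnectedSpace E₀.left := inferInstanceAs (ConnectedSpace ↥(Spec (CommRingCat.of k)))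
  haveI : IsMonHom η[G] :=
    { one_hom := by simp [MonObj.one_eq_one]
      mul_hom := by
        rw [tensorHom_def_assoc, MonObj.mul_one, MonObj.one_eq_one, rightUnitor_hom, whiskerRight_fst]
        congr 1
        exact toUnit_unique _ _ }
  obtain ⟨H, gH, j, hj, hjc, hjs, hjC, hjN, hjA, hmax, -⟩ :=
    Groth.Agent.S8004.result k (fun E _ => IsAffine E.left)
      (fun N E Q _ _ _ _ _ _ _ _ _ i q _ _ _ _ hker hN hQ => (Groth.Agent.S7982.result k N E Q i q hker).1 hN hQ)
      (fun E Q _ _ _ _ _ _ q _ _ _ hE => (Groth.Agent.S7983.result k E Q q).1 hE)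
      G ⟨E₀, inferInstance, η[G], inferInstance, inferInstance, inferInstance, inferInstance,
        fun T g n => ⟨n, by rw [toUnit_unique n (toUnit T), ← Hom.one_def, _root_.mul_one, mul_inv_cancel]⟩,
        inferInstanceAs (IsAffine (Spec (CommRingCat.of k)))⟩
  exact ⟨H, gH, j, ⟨hj, hjc, hjs, hjC, hjA, hjN⟩, fun N' _ i' _ _ _ _ _ hn =>
    hmax N' i' inferInstance inferInstance inferInstance hn inferInstance⟩

/-- the affine part is Galois stable -/
theorem gaff_comap_gA_le {K : Type u} [Field K] [Algebra k K] {G : Over (Spec (CommRingCat.of k))} [GrpObj G]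
    {M : Over (Spec (CommRingCat.of K))} [GrpObj M] (iM : M ⟶ Red.bc (AbVar.ext k K) G) [IsMonHom iM]
    [IsClosedImmersion iM.left] [Smooth M.hom] [ConnectedSpace M.left] [IsAffine M.left]
    (hMn : AlgGrp.IsNormalHom iM)
    (hmax : ∀ (N' : Over (Spec (CommRingCat.of K))) [GrpObj N'] (i' : N' ⟶ Red.bc (AbVar.ext k K) G) [IsMonHom i']
      [IsClosedImmersion i'.left] [Smooth N'.hom] [ConnectedSpace ↥N'.left] [IsAffine N'.left],
      AlgGrp.IsNormalHom i' → ∃ f : N' ⟶ M, f ≫ iM = i')
    (σ : K ≃ₐ[k] K) : iM.left.ker.comap (gA G.hom σ) ≤ iM.left.ker := by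
  let σs := Spec.map (CommRingCat.ofHom (σ.symm : K →ₐ[k] K).toRingHom)
  haveI : IsIso (CommRingCat.ofHom (σ.symm : K →ₐ[k] K).toRingHom) :=
    (ConcreteCategory.isIso_iff_bijective _).2 σ.symm.bijective
  haveI : IsIso σs := inferInstance
  have hc : σs ≫ AbVar.ext k K = AbVar.ext k K := Groth.L08.ChevPerf.sigma_comp σ.symm
  obtain ⟨ψ, _, _, hψ⟩ := exists_comparison_gen σs (AbVar.ext k K) (AbVar.ext k K) hc G
  let F := Over.pullback σs
  haveI : IsClosedImmersion (F.map iM).left :=
    MorphismProperty.of_isPullback (P := @IsClosedImmersion) (isPullback_map_gen σs iM).flip ‹_›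
  haveI : IsIso ψ.left := inferInstanceAs (IsIso ((Over.forget _).map ψ))
  let m : Red.bc σs M ⟶ Red.bc (AbVar.ext k K) G := F.map iM ≫ ψ
  haveI : IsMonHom m := inferInstance
  haveI : IsClosedImmersion m.left := inferInstanceAs (IsClosedImmersion ((F.map iM).left ≫ ψ.left))
  haveI : IsIso (pullback.fst M.hom σs) := inferInstance
  haveI : IsAffine (Red.bc σs M).left := IsAffine.of_isIso (pullback.fst M.hom σs)
  haveI : Smooth (Red.bc σs M).hom := inferInstanceAs (Smooth (pullback.snd M.hom σs))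
  haveI hsur : Surjective (CategoryTheory.inv (pullback.fst M.hom σs)) := inferInstance
  haveI : ConnectedSpace (Red.bc σs M).left :=
    hsur.1.connectedSpace (CategoryTheory.inv (pullback.fst M.hom σs)).continuous
  obtain ⟨z, hz⟩ := hmax _ m (isNormalHom_comp_iso _ ψ (isNormalHom_bc σs iM hMn))
  have hψ' : ψ.left ≫ gA G.hom σ.symm = pullback.fst (Red.bc (AbVar.ext k K) G).hom σs := by
    apply pullback.hom_ext
    · rw [Category.assoc, gA_fst]; exact hψ
    · rw [Category.assoc, gA_snd]
      erw [← Category.assoc, Over.w ψ]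
      exact pullback.condition.symm
  have hl : (F.map iM).left ≫ pullback.fst (Red.bc (AbVar.ext k K) G).hom σs =
      pullback.fst M.hom σs ≫ iM.left := pullback.lift_fst _ _ _
  have h1 : (CategoryTheory.inv (pullback.fst M.hom σs) ≫ z.left) ≫ iM.left ≫ gA G.hom σ.symm = iM.left := by
    have e : z.left ≫ iM.left ≫ gA G.hom σ.symm = pullback.fst M.hom σs ≫ iM.left := by
      rw [← Category.assoc, ← Over.comp_left, hz, Over.comp_left, Category.assoc, hψ', hl]
    rw [Category.assoc, e, IsIso.inv_hom_id_assoc]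
  have h2 : gA G.hom σ.symm ≫ gA G.hom σ = 𝟙 _ := by
    apply pullback.hom_ext
    · rw [Category.assoc, gA_fst, gA_fst, Category.id_comp]
    · rw [Category.assoc, gA_snd, reassoc_of% (gA_snd (f := G.hom) σ.symm), ← Spec.map_comp, ← CommRingCat.ofHom_comp,
        Category.id_comp]
      convert Category.comp_id _
      rw [← Spec.map_id]
      congr 1
      ext x
      simp
  have h3 : (CategoryTheory.inv (pullback.fst M.hom σs) ≫ z.left) ≫ iM.left = iM.left ≫ gA G.hom σ := by
    conv_rhs => rw [← h1]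
    simp only [Category.assoc, h2]
    erw [Category.comp_id]
  rw [← Scheme.IdealSheafData.le_map_iff_comap_le, Scheme.IdealSheafData.map_ker, ← h3]
  exact Scheme.Hom.le_ker_comp _ _

/-- the affine part commutes with Galois extensions -/
theorem gaff_galois {K : Type u} [Field K] [Algebra k K] [IsGalois k K] {G L : Over (Spec (CommRingCat.of k))}
    [GrpObj G] [LocallyOfFiniteType G.hom] [QuasiCompact G.hom] [GrpObj L] (l : L ⟶ G)
    (hLmax : ∀ (L' : Over (Spec (CommRingCat.of k))) [GrpObj L'] (l' : L' ⟶ G) [IsMonHom l'] [IsClosedImmersion l'.left]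
      [Smooth L'.hom] [ConnectedSpace ↥L'.left] [IsAffine L'.left], AlgGrp.IsNormalHom l' → ∃ f : L' ⟶ L, f ≫ l = l')
    (N' : Over (Spec (CommRingCat.of K))) [GrpObj N'] (n' : N' ⟶ Red.bc (AbVar.ext k K) G) [IsMonHom n']
    [IsClosedImmersion n'.left] [Smooth N'.hom] [ConnectedSpace ↥N'.left] [IsAffine N'.left]
    (hn : AlgGrp.IsNormalHom n') :
    ∃ f : N' ⟶ Red.bc (AbVar.ext k K) L, f ≫ (Over.pullback (AbVar.ext k K)).map l = n' := by
  let t := AbVar.ext k K
  let F := Over.pullback t
  haveI : LocallyOfFiniteType (Red.bc t G).hom := inferInstanceAs (LocallyOfFiniteType (pullback.snd G.hom t))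
  haveI : QuasiCompact (Red.bc t G).hom := inferInstanceAs (QuasiCompact (pullback.snd G.hom t))
  obtain ⟨M, gM, iM, ⟨_, _, _, _, _, hMn⟩, hmax⟩ := exists_gaff (Red.bc t G)
  have hst := stable_ideal G.hom iM.left.ker (gaff_comap_gA_le iM hMn hmax)
  obtain ⟨L₀, l₀, f, g, _, hf, hg⟩ := exists_descend_along t (G' := G) iM (pullback.fst G.hom t) pullback.condition
    (𝟙 (Red.bc t G)) (Category.id_comp _) hst
    (fun a b h => Over.OverMorphism.ext (pullback.hom_ext h ((Over.w a).trans (Over.w b).symm)))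
  rw [Category.comp_id] at hf hg
  obtain ⟨gL, _, hnL⟩ := exists_grp_descend iM hMn l₀ f g hf hg
  haveI : LocallyOfFiniteType L₀.hom := by rw [← Over.w l₀]; infer_instance
  haveI : Mono iM := Over.mono_of_mono_left iM
  haveI : IsClosedImmersion (F.map l₀).left :=
    MorphismProperty.of_isPullback (P := @IsClosedImmersion) (Groth.L08.Albanese.isPullback_bc_map l₀).flip ‹_›
  haveI : Mono (F.map l₀) := Over.mono_of_mono_left _
  haveI hfi : IsIso f := ⟨g, by rw [← cancel_mono (F.map l₀), Category.assoc, hg, hf, Category.id_comp],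
    by rw [← cancel_mono iM, Category.assoc, hf, hg, Category.id_comp]⟩
  haveI : IsIso f.left := inferInstanceAs (IsIso ((Over.forget _).map f))
  haveI : IsAffine (Red.bc t L₀).left := IsAffine.of_isIso f.left
  haveI : IsAffineHom L₀.hom := Groth.L08.ChevPerf.descends (K := K) @IsAffineHom L₀ inferInstance
  haveI : IsAffine L₀.left := isAffine_of_isAffineHom L₀.hom
  haveI : Smooth (Red.bc t L₀).hom := by rw [← Over.w f]; infer_instance
  haveI : Smooth L₀.hom := Groth.L08.ChevPerf.descends (K := K) @Smooth L₀ inferInstance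
  haveI hs : Surjective (CategoryTheory.inv f.left) := inferInstance
  haveI : ConnectedSpace (Red.bc t L₀).left := hs.1.connectedSpace (CategoryTheory.inv f.left).continuous
  haveI : Surjective t := Groth.L08.ChevPerf.ext_props.1
  haveI : ConnectedSpace ↥(pullback L₀.hom t) := ‹ConnectedSpace (Red.bc t L₀).left›
  haveI : ConnectedSpace L₀.left :=
    (pullback.fst L₀.hom t).surjective.connectedSpace (pullback.fst L₀.hom t).continuous
  obtain ⟨u, hu⟩ := hLmax L₀ l₀ hnL
  obtain ⟨v, hv⟩ := hmax N' n' hn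
  exact ⟨v ≫ g ≫ F.map u, by rw [Category.assoc, Category.assoc, ← F.map_comp, hu, hg, hv]⟩

/-- the affine part commutes with separable algebraic extensions -/
theorem gaff_separable {K : Type u} [Field K] [Algebra k K] [Algebra.IsSeparable k K]
    {G L : Over (Spec (CommRingCat.of k))}
    [GrpObj G] [LocallyOfFiniteType G.hom] [QuasiCompact G.hom] [GrpObj L] (l : L ⟶ G) [IsMonHom l]
    [IsClosedImmersion l.left]
    (hLmax : ∀ (L' : Over (Spec (CommRingCat.of k))) [GrpObj L'] (l' : L' ⟶ G) [IsMonHom l'] [IsClosedImmersion l'.left]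
      [Smooth L'.hom] [ConnectedSpace ↥L'.left] [IsAffine L'.left], AlgGrp.IsNormalHom l' → ∃ f : L' ⟶ L, f ≫ l = l')
    (N' : Over (Spec (CommRingCat.of K))) [GrpObj N'] (n' : N' ⟶ Red.bc (AbVar.ext k K) G) [IsMonHom n']
    [IsClosedImmersion n'.left] [Smooth N'.hom] [ConnectedSpace ↥N'.left] [IsAffine N'.left]
    (hn : AlgGrp.IsNormalHom n') :
    ∃ f : N' ⟶ Red.bc (AbVar.ext k K) L, f ≫ (Over.pullback (AbVar.ext k K)).map l = n' := by
  let E := SeparableClosure K
  haveI : Algebra.IsSeparable k E := Algebra.IsSeparable.trans k K E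
  haveI : IsSepClosure k E := ⟨inferInstance, inferInstance⟩
  let t₀ := AbVar.ext k K
  let t₁ := AbVar.ext K E
  let t := AbVar.ext k E
  let F₁ := Over.pullback t₁
  have hc : t₁ ≫ t₀ = t := by
    show Spec.map _ ≫ Spec.map _ = Spec.map _
    rw [← Spec.map_comp, ← CommRingCat.ofHom_comp, ← IsScalarTower.algebraMap_eq]
  obtain ⟨φ, _, _, hφ⟩ := exists_comparison_gen t₁ t₀ t hc G
  obtain ⟨φL, _, _, hφL⟩ := exists_comparison_gen t₁ t₀ t hc L
  haveI : IsIso φ.left := inferInstanceAs (IsIso ((Over.forget _).map φ))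
  haveI : IsClosedImmersion (F₁.map n').left :=
    MorphismProperty.of_isPullback (P := @IsClosedImmersion) (Groth.L08.Albanese.isPullback_bc_map n').flip ‹_›
  haveI : IsAffineHom t₁ := isAffineHom_of_isAffine t₁
  haveI : IsAffineHom (pullback.fst N'.hom t₁) := MorphismProperty.pullback_fst (P := @IsAffineHom) _ _ ‹_›
  haveI : IsAffine (Red.bc t₁ N').left := isAffine_of_isAffineHom (pullback.fst N'.hom t₁)
  haveI : Smooth (Red.bc t₁ N').hom := Groth.L08.ChevPerf.smooth_bc N'
  haveI : ConnectedSpace (Red.bc t₁ N').left := Groth.L08.ChevPerf.connectedSpace_bc N'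
  let m : Red.bc t₁ N' ⟶ Red.bc t G := F₁.map n' ≫ φ
  haveI : IsMonHom m := inferInstance
  haveI : IsClosedImmersion m.left := inferInstanceAs (IsClosedImmersion ((F₁.map n').left ≫ φ.left))
  obtain ⟨f, hf⟩ := gaff_galois l hLmax _ m (isNormalHom_comp_iso _ φ (isNormalHom_bc t₁ n' hn))
  have hnat : F₁.map ((Over.pullback t₀).map l) ≫ φ = φL ≫ (Over.pullback t).map l := by
    refine Over.OverMorphism.ext (pullback.hom_ext ?_ ?_)
    · have hl1 : (F₁.map ((Over.pullback t₀).map l)).left ≫ pullback.fst (Red.bc t₀ G).hom t₁ =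
          pullback.fst (Red.bc t₀ L).hom t₁ ≫ ((Over.pullback t₀).map l).left := pullback.lift_fst _ _ _
      have hl2 : ((Over.pullback t₀).map l).left ≫ pullback.fst G.hom t₀ = pullback.fst L.hom t₀ ≫ l.left :=
        pullback.lift_fst _ _ _
      have hl3 : ((Over.pullback t).map l).left ≫ pullback.fst G.hom t = pullback.fst L.hom t ≫ l.left :=
        pullback.lift_fst _ _ _
      simp only [Over.comp_left, Category.assoc, hφ]
      rw [reassoc_of% hl1, hl2, hl3, reassoc_of% hφL]
    · exact (Over.w _).trans (Over.w _).symm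
  haveI : IsClosedImmersion ((Over.pullback t₀).map l).left :=
    MorphismProperty.of_isPullback (P := @IsClosedImmersion) (Groth.L08.Albanese.isPullback_bc_map l).flip ‹_›
  refine Groth.L08.Albanese.exists_factor_of_bc (K := E) ((Over.pullback t₀).map l) n' ⟨f ≫ CategoryTheory.inv φL, ?_⟩
  rw [← cancel_mono φ, Category.assoc, Category.assoc, hnat, IsIso.inv_hom_id_assoc, hf]

end Groth.L08.SmallNorm
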