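import Groth.Agent.L08.AbelianGrp
import Groth.Agent.L08.Albanese.Descent

/-!
# Groups with a homomorphism to a proper group with affine kernel
-/

set_option autoImplicit false
set_option backward.isDefEq.respectTransparency.types false
set_option linter.style.haveILetI false
set_option linter.unusedSectionVars false

universe u

open CategoryTheory CategoryTheory.Limits MonoidalCategory CartesianMonoidalCategory MonObj AlgebraicGeometry

noncomputable section

namespace Groth.L08.SmallNorm

variable {k : Type u} [Field k]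

/-- There is a homomorphism to a proper group with affine kernel. -/
def HasAff (G : Over (Spec (CommRingCat.of k))) [GrpObj G] : Prop :=
  ∃ (Q : Over (Spec (CommRingCat.of k))) (_ : GrpObj Q) (q : G ⟶ Q) (N : Over (Spec (CommRingCat.of k)))
    (i : N ⟶ G), IsMonHom q ∧ IsProper Q.hom ∧ AlgGrp.IsKernel i q ∧ IsAffine N.left

/-- the homomorphism can be taken faithfully flat -/
theorem HasAff.exists_surj {G : Over (Spec (CommRingCat.of k))} [GrpObj G] [LocallyOfFiniteType G.hom]
    [QuasiCompact G.hom] (h : HasAff G) :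
    ∃ (Q : Over (Spec (CommRingCat.of k))) (_ : GrpObj Q) (q : G ⟶ Q) (N : Over (Spec (CommRingCat.of k)))
      (i : N ⟶ G), IsMonHom q ∧ IsProper Q.hom ∧ Surjective q.left ∧ Flat q.left ∧
        LocallyOfFinitePresentation q.left ∧ AlgGrp.IsKernel i q ∧ IsAffine N.left := by
  obtain ⟨Q, gQ, q, N, i, _, _, sq, hN⟩ := h
  obtain ⟨C, gC, p, j, _, _, hpj, _, _, _, _⟩ := AbelianGrp.exists_image q
  haveI : Mono j := Over.mono_of_mono_left j
  haveI : IsProper C.hom := by rw [← Over.w j]; infer_instance
  refine ⟨C, gC, p, N, i, inferInstance, inferInstance, inferInstance, inferInstance, inferInstance, ?_, hN⟩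
  refine IsPullback.mk' ?_ (fun T a b e1 e2 => sq.hom_ext e1 e2) (fun T a b e => ?_)
  · rw [← cancel_mono j, Category.assoc, hpj, sq.w, Category.assoc, IsMonHom.one_hom]
  · obtain ⟨c, hc, hc'⟩ := sq.exists_lift a b (by
      rw [← hpj, ← Category.assoc, e, Category.assoc, IsMonHom.one_hom])
    exact ⟨c, hc, hc'⟩

/-- the property pulls back along affine homomorphisms -/
theorem HasAff.of_affine_hom {G H : Over (Spec (CommRingCat.of k))} [GrpObj G] [GrpObj H] (f : G ⟶ H) [IsMonHom f]
    [IsAffineHom f.left] (h : HasAff H) : HasAff G := by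
  obtain ⟨Q, gQ, q, N, i, _, _, sq, hN⟩ := h
  haveI := hN
  refine ⟨Q, gQ, f ≫ q, pullback f i, pullback.fst f i, inferInstance, inferInstance, ?_, ?_⟩
  · have h2 := (IsPullback.of_hasPullback f i).paste_vert sq
    rwa [show pullback.snd f i ≫ toUnit N = toUnit (pullback f i) from toUnit_unique _ _] at h2
  · have hs : IsPullback (pullback.fst f i).left (pullback.snd f i).left f.left i.left :=
      (IsPullback.of_hasPullback f i).map (Over.forget _)
    haveI : IsAffineHom (pullback.snd f i).left :=
      MorphismProperty.of_isPullback (P := @IsAffineHom) hs ‹_›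
    exact isAffine_of_isAffineHom (pullback.snd f i).left

/-- base change of a kernel -/
theorem isKernel_bc {K : Type u} [Field K] (t : Spec (CommRingCat.of K) ⟶ Spec (CommRingCat.of k))
    {N G Q : Over (Spec (CommRingCat.of k))} [GrpObj Q] {i : N ⟶ G} {q : G ⟶ Q} (sq : AlgGrp.IsKernel i q) :
    AlgGrp.IsKernel ((Over.pullback t).map i) ((Over.pullback t).map q) := by
  let F := Over.pullback t
  refine IsPullback.mk' ?_ (fun T a b e1 _ => (sq.map F).hom_ext e1 ?_) (fun T a b e => ?_)
  · rw [← F.map_comp, sq.w, F.map_comp]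
    show _ = toUnit _ ≫ Functor.LaxMonoidal.ε F ≫ F.map η[Q]
    rw [← Category.assoc]
    congr 1
    rw [← Category.comp_id (F.map (toUnit N)), ← (Functor.Monoidal.εIso F).inv_hom_id, ← Category.assoc]
    congr 1
    exact toUnit_unique _ _
  · rw [← Category.comp_id (a ≫ F.map (toUnit N)), ← Category.comp_id (b ≫ F.map (toUnit N)),
      ← (Functor.Monoidal.εIso F).inv_hom_id, ← Category.assoc, ← Category.assoc]
    congr 1
    exact toUnit_unique _ _
  · obtain ⟨c, hc, -⟩ := (sq.map F).exists_lift a (b ≫ Functor.LaxMonoidal.ε F) (by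
      rw [e, Category.assoc]; rfl)
    exact ⟨c, hc, toUnit_unique _ _⟩

/-- the property is stable under base change -/
theorem HasAff.bc {K : Type u} [Field K] (t : Spec (CommRingCat.of K) ⟶ Spec (CommRingCat.of k))
    {G : Over (Spec (CommRingCat.of k))} [GrpObj G] (h : HasAff G) : HasAff (Red.bc t G) := by
  obtain ⟨Q, gQ, q, N, i, _, hQ, sq, hN⟩ := h
  haveI := hN
  haveI : IsProper (Red.bc t Q).hom := inferInstanceAs (IsProper (pullback.snd Q.hom t))
  haveI : IsAffineHom t := isAffineHom_of_isAffine t
  haveI : IsAffineHom (pullback.fst N.hom t) := MorphismProperty.pullback_fst (P := @IsAffineHom) _ _ ‹_›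
  exact ⟨Red.bc t Q, inferInstance, (Over.pullback t).map q, Red.bc t N, (Over.pullback t).map i, inferInstance,
    inferInstance, isKernel_bc t sq, isAffine_of_isAffineHom (pullback.fst N.hom t)⟩

end Groth.L08.SmallNorm
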