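import Groth.Agent.L08.SmallNorm.SepStable
import Groth.Agent.L08.FactorLocus
import Groth.Agent.L25.PointsDense
import Groth.Agent.L25.Translate

/-!
# The kernel of the Albanese map of the identity component
-/

set_option autoImplicit false
set_option backward.isDefEq.respectTransparency.types false
set_option linter.style.haveILetI false
set_option linter.unusedSectionVars false

universe u

open CategoryTheory CategoryTheory.Limits MonoidalCategory CartesianMonoidalCategory MonObj AlgebraicGeometry
open Groth.L08.Chev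

noncomputable section

namespace Groth.L08.SmallNorm

variable {k : Type u} [Field k]

/-- a connected open subgroup is the identity component -/
theorem idCompData_of_open {G G₀ : Over (Spec (CommRingCat.of k))} [GrpObj G] [GrpObj G₀] [LocallyOfFiniteType G.hom]
    [QuasiCompact G.hom] (i₀ : G₀ ⟶ G) [IsMonHom i₀] [IsOpenImmersion i₀.left] [ConnectedSpace G₀.left] :
    IdCompData i₀ := by
  obtain ⟨H, gH, j, hj⟩ := exists_idComp G
  haveI := hj.hom
  haveI := hj.openImm
  haveI := hj.closedImm
  haveI := hj.lft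
  haveI := hj.connectedSpace
  haveI : Mono j := Over.mono_of_mono_left j
  haveI : IsLocallyNoetherian H.left := LocallyOfFiniteType.isLocallyNoetherian H.hom
  haveI : IrreducibleSpace H.left := Groth.L25.Component.irreducibleSpace H
  obtain ⟨z, hz⟩ := hj.exists_lift_hom i₀
  haveI : IsMonHom z := by
    haveI : IsMonHom (z ≫ j) := by rw [hz]; infer_instance
    exact isMonHom_of_comp z j
  haveI : IsOpenImmersion z.left := by
    haveI : IsOpenImmersion (z.left ≫ j.left) := by rw [← Over.comp_left, hz]; infer_instance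
    exact IsOpenImmersion.of_comp z.left j.left
  haveI : QuasiCompact z.left := by
    haveI : CompactSpace G.left := QuasiCompact.compactSpace_of_compactSpace G.hom
    haveI : IsLocallyNoetherian G.left := LocallyOfFiniteType.isLocallyNoetherian G.hom
    haveI : QuasiCompact (z.left ≫ j.left) := by rw [← Over.comp_left, hz]; infer_instance
    exact QuasiCompact.of_comp z.left j.left
  have hd : DenseRange z.left := z.left.isOpenEmbedding.isOpen_range.dense ⟨_, ⟨Groth.L25.Component.one G₀, rfl⟩⟩
  have hs := Groth.L25.Translate.surjective_of_denseRange z hd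
  have hr : Set.range i₀.left = Set.range j.left := by
    rw [← hz, Over.comp_left, Scheme.Hom.comp_base, TopCat.coe_comp, Set.range_comp]
    rw [show Set.range z.left = Set.univ from Set.range_eq_univ.2 hs.1]
    exact Set.image_univ
  refine ⟨inferInstance, IsClosedImmersion.of_isPreimmersion _ (hr ▸ j.left.isClosedEmbedding.isClosed_range),
    inferInstance, hr.trans hj.range⟩

/-- the Albanese kernel is the smallest subgroup with proper quotient -/
theorem ker_albanese {G₀ : Over (Spec (CommRingCat.of k))} [GrpObj G₀] [Smooth G₀.hom] [QuasiCompact G₀.hom]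
    [ConnectedSpace G₀.left] (A : Over (Spec (CommRingCat.of k))) [GrpObj A] [IsProper A.hom] (α : G₀ ⟶ A) [IsMonHom α]
    (hα : ∀ (B : Over (Spec (CommRingCat.of k))) [GrpObj B] [IsProper B.hom] [Smooth B.hom] [ConnectedSpace ↥B.left]
      (f : G₀ ⟶ B), η[G₀] ≫ f = η[B] → ∃! g : A ⟶ B, α ≫ g = f)
    {N : Over (Spec (CommRingCat.of k))} [GrpObj N] (j : N ⟶ G₀) [IsMonHom j] [IsClosedImmersion j.left]
    (hN : AlgGrp.IsKernel j α) :
    IsAffine N.left ∧ ConnectedSpace N.left ∧
      ∀ (B : Over (Spec (CommRingCat.of k))) [GrpObj B] [IsProper B.hom] (q : G₀ ⟶ B) [IsMonHom q], j ≫ q = 1 := by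
  obtain ⟨M, gM, iM, Q, gQ, q₀, _, _, _, _, _, _, _, _, _, sq, hkill⟩ := exists_smallest G₀
  obtain ⟨h1, h2, h3⟩ := Groth.Agent.S7983.result k G₀ Q q₀
  haveI : Smooth Q.hom := by
    first | exact h3 ‹_› | exact h2 ‹_›
  haveI : ConnectedSpace Q.left := q₀.left.surjective.connectedSpace q₀.left.continuous
  obtain ⟨g, hg, -⟩ := hα Q q₀ (IsMonHom.one_hom (f := q₀))
  have hjα : j ≫ α = 1 := hN.w.trans (Hom.one_def).symm
  have hgη : η[A] ≫ g = η[Q] := by
    rw [← IsMonHom.one_hom (f := α), Category.assoc, hg, IsMonHom.one_hom]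
  obtain ⟨a, ha, -⟩ := sq.exists_lift j (toUnit N) (by
    rw [← hg, ← Category.assoc, hjα, Hom.one_def, Category.assoc, hgη])
  obtain ⟨b, hb, -⟩ := hN.exists_lift iM (toUnit M) (by rw [hkill A α, Hom.one_def])
  haveI : Mono iM := Over.mono_of_mono_left iM
  haveI : Mono j := Over.mono_of_mono_left j
  haveI : IsIso a := ⟨b, by rw [← cancel_mono j, Category.assoc, hb, ha, Category.id_comp],
    by rw [← cancel_mono iM, Category.assoc, ha, hb, Category.id_comp]⟩
  haveI : IsIso a.left := inferInstanceAs (IsIso ((Over.forget _).map a))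
  refine ⟨IsAffine.of_isIso a.left, (inv a.left).surjective.connectedSpace (inv a.left).continuous, fun B _ _ q _ => ?_⟩
  rw [← ha, Category.assoc, hkill B q, MonObj.comp_one]

/-- conjugation of the Albanese kernel over a separably closed field -/
theorem normal_of_points [IsSepClosed k] {G G₀ N A : Over (Spec (CommRingCat.of k))} [GrpObj G] [GrpObj G₀] [GrpObj N]
    [GrpObj A] [Smooth G.hom] {i₀ : G₀ ⟶ G} (hi : IdCompData i₀) (j : N ⟶ G₀) [IsClosedImmersion j.left]
    (α : G₀ ⟶ A) [IsMonHom α] [IsProper A.hom] (hker : AlgGrp.IsKernel j α)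
    (hkill : ∀ (B : Over (Spec (CommRingCat.of k))) [GrpObj B] [IsProper B.hom] (q : G₀ ⟶ B) [IsMonHom q], j ≫ q = 1) :
    AlgGrp.IsNormalHom (j ≫ i₀) := by
  haveI := hi.hom
  haveI := hi.closedImm
  haveI := hi.openImm
  haveI := hi.connectedSpace
  haveI : Mono i₀ := Over.mono_of_mono_left i₀
  haveI : IsClosedImmersion (j ≫ i₀).left := inferInstanceAs (IsClosedImmersion (j.left ≫ i₀.left))
  let C : N ⊗ G ⟶ G := snd N G * (fst N G ≫ j ≫ i₀) * (snd N G)⁻¹
  obtain ⟨T, t, _, hT⟩ := Groth.L08.FactorLocus.exists_closedImmersion_lands C (j ≫ i₀)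
  obtain ⟨s, hs⟩ := Groth.L25.PointsDense.factors_of_isIso (k := k) (K := k) (𝟙 G) t
    (fun c _ h => Groth.L25.PointsDense.isIso_of_smooth (k := k) (K := k) G.hom c h) (fun x => by
      rw [Category.comp_id]
      refine (hT _ x).2 ?_
      let x' : SP k k ⟶ G := x
      let σ := (str G₀ ≫ x') * i₀ * (str G₀ ≫ x')⁻¹
      haveI : IsMonHom σ := isMonHom_conj x' i₀
      obtain ⟨z, hz⟩ := hi.exists_lift_hom σ
      haveI : IsMonHom z := by
        haveI : IsMonHom (z ≫ i₀) := by rw [hz]; infer_instance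
        exact isMonHom_of_comp z i₀
      obtain ⟨w, hw, -⟩ := hker.exists_lift (j ≫ z) (toUnit N) (by
        rw [Category.assoc, hkill A (z ≫ α), Hom.one_def])
      refine ⟨fst N (SP k k) ≫ w, ?_⟩
      rw [Category.assoc, reassoc_of% hw, hz]
      simp only [C, σ, MonObj.comp_mul, GrpObj.comp_inv, whiskerLeft_fst_assoc]
      erw [whiskerLeft_snd]
      rw [← Category.assoc (fst N (SP k k)) j, ← Category.assoc ((fst N (SP k k)) ≫ j) (str G₀),
        hom_to_SP_ext ((fst N (SP k k) ≫ j) ≫ str G₀) (snd N (SP k k))])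
  obtain ⟨w, hw⟩ := (hT _ (𝟙 G)).1 ⟨s, hs⟩
  intro U g n
  refine ⟨lift n g ≫ w, ?_⟩
  rw [Category.assoc, hw]
  simp only [C, MonObj.comp_mul, GrpObj.comp_inv, whiskerLeft_id, Category.id_comp, lift_fst_assoc, lift_snd]

/-- the Albanese kernel of the identity component is normal in the whole group -/
theorem normal_albanese_kernel {G G₀ N A : Over (Spec (CommRingCat.of k))} [GrpObj G] [GrpObj G₀] [GrpObj N]
    [GrpObj A] [Smooth G.hom] [QuasiCompact G.hom] {i₀ : G₀ ⟶ G} (hi : IdCompData i₀) (j : N ⟶ G₀) [IsMonHom j]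
    [IsClosedImmersion j.left] (α : G₀ ⟶ A) [IsMonHom α] [IsProper A.hom] (hker : AlgGrp.IsKernel j α)
    (hkill : ∀ (B : Over (Spec (CommRingCat.of k))) [GrpObj B] [IsProper B.hom] (q : G₀ ⟶ B) [IsMonHom q], j ≫ q = 1) :
    AlgGrp.IsNormalHom (j ≫ i₀) := by
  haveI := hi.hom
  haveI := hi.closedImm
  haveI := hi.smooth
  haveI := hi.quasiCompact
  let K := SeparableClosure k
  let t := AbVar.ext k K
  let F := Over.pullback t
  haveI : IsGalois k K := inferInstance
  haveI : IsProper (Red.bc t A).hom := inferInstanceAs (IsProper (pullback.snd A.hom t))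
  haveI : Smooth (Red.bc t G).hom := Groth.L08.ChevPerf.smooth_bc G
  haveI : IsClosedImmersion (F.map j).left :=
    MorphismProperty.of_isPullback (P := @IsClosedImmersion) (Groth.L08.Albanese.isPullback_bc_map j).flip ‹_›
  have hn := normal_of_points (idCompData_bc (K := K) hi) (F.map j) (F.map α) (isKernel_bc t hker)
    (fun B _ _ q _ => kills_bc j hkill B q)
  haveI : IsClosedImmersion (j ≫ i₀).left := inferInstanceAs (IsClosedImmersion (j.left ≫ i₀.left))
  intro U a b
  obtain ⟨n', hn'⟩ := hn (F.obj (G ⊗ N)) (F.map (fst G N)) (F.map (snd G N))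
  obtain ⟨z', hz'⟩ := Groth.L08.Albanese.exists_factor_of_bc (K := K) (j ≫ i₀)
    (fst G N * (snd G N ≫ j ≫ i₀) * (fst G N)⁻¹) ⟨n', by
      show n' ≫ F.map (j ≫ i₀) = F.map (fst G N * (snd G N ≫ j ≫ i₀) * (fst G N)⁻¹)
      rw [F.map_comp, ← hn']
      simp only [Functor.map_mul, F.map_comp]
      congr 1
      exact (map_inv (Functor.homMonoidHom F) (fst G N)).symm⟩
  refine ⟨lift a b ≫ z', ?_⟩
  have h2 := congrArg (fun m => lift a b ≫ m) hz'
  simp only [MonObj.comp_mul, GrpObj.comp_inv, lift_fst, lift_snd_assoc] at h2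
  rw [Category.assoc, h2]

/-- the quotient of the group by the Albanese kernel of its identity component is proper -/
theorem exists_proper_quotient {G G₀ N A : Over (Spec (CommRingCat.of k))} [GrpObj G] [GrpObj G₀] [GrpObj N]
    [GrpObj A] [Smooth G.hom] [QuasiCompact G.hom] {i₀ : G₀ ⟶ G} (hi : IdCompData i₀) (j : N ⟶ G₀) [IsMonHom j]
    [IsClosedImmersion j.left] (α : G₀ ⟶ A) [IsMonHom α] [IsProper A.hom] [Surjective α.left] [Flat α.left]
    (hker : AlgGrp.IsKernel j α) (hnorm : AlgGrp.IsNormalHom (j ≫ i₀)) :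
    ∃ (Q : Over (Spec (CommRingCat.of k))) (_ : GrpObj Q) (q : G ⟶ Q), IsMonHom q ∧ Surjective q.left ∧ Flat q.left ∧
      AlgGrp.IsKernel (j ≫ i₀) q ∧ IsProper Q.hom := by
  haveI := hi.hom
  haveI := hi.closedImm
  haveI := hi.smooth
  haveI := hi.quasiCompact
  haveI := hi.connectedSpace
  let K := AlgebraicClosure k
  let t := AbVar.ext k K
  let F := Over.pullback t
  haveI : IsMonHom (j ≫ i₀) := inferInstance
  haveI : IsClosedImmersion (j ≫ i₀).left := inferInstanceAs (IsClosedImmersion (j.left ≫ i₀.left))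
  haveI : Mono (j ≫ i₀) := Over.mono_of_mono_left _
  haveI : LocallyOfFiniteType N.hom := by rw [← Over.w (j ≫ i₀)]; infer_instance
  haveI : LocallyOfFinitePresentation α.left := Groth.L08.ChevPerf.lfp_left α
  haveI : IsProper (Red.bc t A).hom := inferInstanceAs (IsProper (pullback.snd A.hom t))
  haveI : LocallyOfFiniteType (Red.bc t G).hom := inferInstanceAs (LocallyOfFiniteType (pullback.snd G.hom t))
  haveI : QuasiCompact (Red.bc t G).hom := inferInstanceAs (QuasiCompact (pullback.snd G.hom t))
  obtain ⟨Y, p₀, _, _, _, sqp⟩ := GQuot.exists_quotient_field (j ≫ i₀)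
  obtain ⟨Q, q, _, _, _, sqq, hlft, -, hqc, -, -⟩ := GQuot.exists_struct p₀ sqp
  obtain ⟨gQ, _, hkerQ⟩ := GQuot.exists_grp hnorm q sqq
  haveI := hlft inferInstance
  haveI := hqc inferInstance
  haveI : Surjective (F.map q).left :=
    MorphismProperty.of_isPullback (P := @Surjective) (Groth.L08.Albanese.isPullback_bc_map q).flip ‹_›
  haveI : Flat (F.map q).left :=
    MorphismProperty.of_isPullback (P := @Flat) (Groth.L08.Albanese.isPullback_bc_map q).flip ‹_›
  haveI : LocallyOfFinitePresentation (F.map q).left :=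
    MorphismProperty.of_isPullback (P := @LocallyOfFinitePresentation) (Groth.L08.Albanese.isPullback_bc_map q).flip ‹_›
  haveI : Surjective (F.map α).left :=
    MorphismProperty.of_isPullback (P := @Surjective) (Groth.L08.Albanese.isPullback_bc_map α).flip ‹_›
  haveI : Flat (F.map α).left :=
    MorphismProperty.of_isPullback (P := @Flat) (Groth.L08.Albanese.isPullback_bc_map α).flip ‹_›
  haveI : LocallyOfFinitePresentation (F.map α).left :=
    MorphismProperty.of_isPullback (P := @LocallyOfFinitePresentation) (Groth.L08.Albanese.isPullback_bc_map α).flip ‹_›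
  haveI : LocallyOfFiniteType (Red.bc t Q).hom := inferInstanceAs (LocallyOfFiniteType (pullback.snd Q.hom t))
  haveI : QuasiCompact (Red.bc t Q).hom := inferInstanceAs (QuasiCompact (pullback.snd Q.hom t))
  have hP : IsProper (Red.bc t Q).hom :=
    isProper_quotient (idCompData_bc (K := K) hi) (F.map j) (F.map α) (isKernel_bc t hker) (F.map q) (by
      rw [← F.map_comp, ← F.map_comp, ← Category.assoc, hkerQ.w, ← Hom.one_def, Functor.map_one])
  haveI : MorphismProperty.DescendsAlong @IsProper
      (@Surjective ⊓ @Flat ⊓ @QuasiCompact : MorphismProperty Scheme.{u}) := Groth.Agent.S0086.result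
  haveI : IsProper Q.hom := Groth.L08.ChevPerf.descends (K := K) @IsProper Q hP
  exact ⟨Q, gQ, q, inferInstance, inferInstance, inferInstance, hkerQ, inferInstance⟩

end Groth.L08.SmallNorm
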