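import Groth.Agent.L08.SmallNorm.Stage
import Groth.Agent.S0591
import Groth.Agent.S0081
import Mathlib.AlgebraicGeometry.AffineTransitionLimit

/-!
# Algebraic groups over an algebraic extension are defined over a finite stage
-/

set_option autoImplicit false
set_option backward.isDefEq.respectTransparency.types false
set_option linter.style.haveILetI false
set_option linter.unusedSectionVars false

universe u

open CategoryTheory CategoryTheory.Limits MonoidalCategory CartesianMonoidalCategory MonObj AlgebraicGeometry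
open Groth.L27.FEtField Opposite

noncomputable section

namespace Groth.L08.SmallNorm

theorem exists_comparison_obj {S₀ S₁ S₂ : Scheme.{u}} (g : S₂ ⟶ S₁) (f : S₁ ⟶ S₀) (h : S₂ ⟶ S₀) (hc : g ≫ f = h)
    (X : Over S₀) :
    ∃ φ : Red.bc g (Red.bc f X) ⟶ Red.bc h X,
      IsIso φ ∧ φ.left ≫ pullback.fst X.hom h = pullback.fst (Red.bc f X).hom g ≫ pullback.fst X.hom f :=
  ⟨_, inferInstance, bc_comp_fst hc X⟩

theorem comparison_natural {S₀ S₁ S₂ : Scheme.{u}} (g : S₂ ⟶ S₁) (f : S₁ ⟶ S₀) (h : S₂ ⟶ S₀) {X Y : Over S₀}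
    (φX : Red.bc g (Red.bc f X) ⟶ Red.bc h X)
    (hX : φX.left ≫ pullback.fst X.hom h = pullback.fst (Red.bc f X).hom g ≫ pullback.fst X.hom f)
    (φY : Red.bc g (Red.bc f Y) ⟶ Red.bc h Y)
    (hY : φY.left ≫ pullback.fst Y.hom h = pullback.fst (Red.bc f Y).hom g ≫ pullback.fst Y.hom f) (d : X ⟶ Y) :
    (Over.pullback g).map ((Over.pullback f).map d) ≫ φY = φX ≫ (Over.pullback h).map d := by
  refine Over.OverMorphism.ext (pullback.hom_ext ?_ ((Over.w _).trans (Over.w _).symm))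
  have hl1 : ((Over.pullback g).map ((Over.pullback f).map d)).left ≫ pullback.fst (Red.bc f Y).hom g =
      pullback.fst (Red.bc f X).hom g ≫ ((Over.pullback f).map d).left := pullback.lift_fst _ _ _
  have hl2 : ((Over.pullback f).map d).left ≫ pullback.fst Y.hom f = pullback.fst X.hom f ≫ d.left :=
    pullback.lift_fst _ _ _
  have hl3 : ((Over.pullback h).map d).left ≫ pullback.fst Y.hom h = pullback.fst X.hom h ≫ d.left :=
    pullback.lift_fst _ _ _
  simp only [Over.comp_left, Category.assoc, hY]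
  rw [reassoc_of% hl1, hl2, hl3, reassoc_of% hX]

variable {k K : Type u} [Field k] [Field K] [Algebra k K] [Algebra.IsAlgebraic k K]

/-- base change along a field extension is faithful -/
theorem bc_faithful {T X : Over (Spec (CommRingCat.of k))} (a b : T ⟶ X)
    (h : (Over.pullback (AbVar.ext k K)).map a = (Over.pullback (AbVar.ext k K)).map b) : a = b := by
  obtain ⟨_, hfl, _⟩ := Groth.L08.ChevPerf.ext_props (k := k) (K := K)
  haveI : Flat (pullback.fst T.hom (AbVar.ext k K)) := MorphismProperty.pullback_fst (P := @Flat) _ _ hfl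
  haveI : QuasiCompact (pullback.fst T.hom (AbVar.ext k K)) :=
    MorphismProperty.pullback_fst (P := @QuasiCompact) _ _ ‹_›
  haveI : Surjective (pullback.fst T.hom (AbVar.ext k K)) := inferInstance
  haveI : Epi (pullback.fst T.hom (AbVar.ext k K)) := Flat.epi_of_flat_of_surjective _
  have hl : ∀ d : T ⟶ X, ((Over.pullback (AbVar.ext k K)).map d).left ≫ pullback.fst X.hom (AbVar.ext k K) =
      pullback.fst T.hom (AbVar.ext k K) ≫ d.left := fun d => pullback.lift_fst _ _ _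
  refine Over.OverMorphism.ext ?_
  rw [← cancel_epi (pullback.fst T.hom (AbVar.ext k K)), ← hl, ← hl, h]

/-- a scheme of finite type is defined at a finite stage -/
theorem exists_model (G : Over (Spec (CommRingCat.of K))) [LocallyOfFiniteType G.hom] [QuasiCompact G.hom]
    [QuasiSeparated G.hom] :
    ∃ (L : FSub k K) (X₀ : Over (Spec (CommRingCat.of L.1))) (e : Red.bc (AbVar.ext L.1 K) X₀ ⟶ G),
      IsIso e ∧ LocallyOfFiniteType X₀.hom ∧ QuasiCompact X₀.hom := by
  haveI : PreservesLimitsOfSize.{u, u} Scheme.Spec.{u} := ΓSpec.adjunction.rightAdjoint_preservesLimits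
  let D : (FSub k K)ᵒᵖ ⥤ Scheme.{u} := (diagram k K).op ⋙ Scheme.Spec
  let c : Cone D := Scheme.Spec.mapCone (cocone k K).op
  have hc : IsLimit c := isLimitOfPreserves Scheme.Spec (isColimitCocone k K).op
  haveI : ∀ (i j : (FSub k K)ᵒᵖ) (f : i ⟶ j), IsAffineHom (D.map f) := fun i j f => by
    haveI : IsAffine (D.obj i) := inferInstanceAs (IsAffine (Spec _))
    haveI : IsAffine (D.obj j) := inferInstanceAs (IsAffine (Spec _))
    infer_instance
  haveI : ∀ i, CompactSpace (D.obj i) := fun i => inferInstanceAs (CompactSpace ↥(Spec _))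
  haveI : ∀ i, QuasiSeparatedSpace (D.obj i) := fun i => inferInstanceAs (QuasiSeparatedSpace ↥(Spec _))
  haveI : IsLocallyNoetherian G.left := LocallyOfFiniteType.isLocallyNoetherian G.hom
  haveI : LocallyOfFinitePresentation G.hom := LocallyOfFinitePresentation.iff_locallyOfFiniteType.2 inferInstance
  haveI : LocallyOfFinitePresentation (show G.left ⟶ c.pt from G.hom) := ‹LocallyOfFinitePresentation G.hom›
  haveI : QuasiCompact (show G.left ⟶ c.pt from G.hom) := ‹QuasiCompact G.hom›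
  haveI : QuasiSeparated (show G.left ⟶ c.pt from G.hom) := ‹QuasiSeparated G.hom›
  obtain ⟨i, Xi, fi, g, h1, h2, -, sq⟩ := Groth.Agent.S0591.result D c hc G.left G.hom
  let X₀ : Over (Spec (CommRingCat.of i.unop.1)) := Over.mk fi
  have sq' : IsPullback g G.hom X₀.hom (AbVar.ext i.unop.1 K) := sq
  let e : Red.bc (AbVar.ext i.unop.1 K) X₀ ⟶ G :=
    Over.homMk sq'.isoPullback.inv sq'.isoPullback_inv_snd
  haveI : IsIso e.left := inferInstanceAs (IsIso sq'.isoPullback.inv)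
  haveI : IsIso e := by
    haveI : IsIso ((Over.forget _).map e) := ‹IsIso e.left›
    exact isIso_of_reflects_iso e (Over.forget _)
  haveI : LocallyOfFinitePresentation fi := h1
  exact ⟨i.unop, X₀, e, ‹_›, inferInstanceAs (LocallyOfFiniteType fi), h2⟩

/-- morphisms are defined at a finite stage -/
theorem exists_map_stage {P Q : Over (Spec (CommRingCat.of k))} [CompactSpace P.left] [QuasiSeparatedSpace P.left]
    [LocallyOfFiniteType Q.hom] (a : Red.bc (AbVar.ext k K) P ⟶ Red.bc (AbVar.ext k K) Q) :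
    ∃ L₀ : FSub k K, ∀ L, L₀ ≤ L → ∃ aL : Red.bc (sp L) P ⟶ Red.bc (sp L) Q,
      ∀ (φP : Red.bc (AbVar.ext L.1 K) (Red.bc (sp L) P) ⟶ Red.bc (AbVar.ext k K) P)
        (φQ : Red.bc (AbVar.ext L.1 K) (Red.bc (sp L) Q) ⟶ Red.bc (AbVar.ext k K) Q),
        φP.left ≫ pullback.fst P.hom (AbVar.ext k K) =
          pullback.fst (Red.bc (sp L) P).hom (AbVar.ext L.1 K) ≫ pullback.fst P.hom (sp L) →
        φQ.left ≫ pullback.fst Q.hom (AbVar.ext k K) =
          pullback.fst (Red.bc (sp L) Q).hom (AbVar.ext L.1 K) ≫ pullback.fst Q.hom (sp L) →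
        (Over.pullback (AbVar.ext L.1 K)).map aL ≫ φQ = φP ≫ a := by
  let D := bc (K := K) P.hom
  let c := bcCone (K := K) P.hom
  haveI hfst : ∀ L, IsAffineHom (pullback.fst P.hom (sp (K := K) L)) := fun L =>
    MorphismProperty.pullback_fst (P := @IsAffineHom) _ _ (isAffineHom_of_isAffine _)
  haveI : ∀ i, CompactSpace (D.obj i) := fun i =>
    haveI := hfst i.unop
    show CompactSpace ↥(pullback P.hom (sp i.unop)) from
      QuasiCompact.compactSpace_of_compactSpace (pullback.fst P.hom (sp i.unop))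
  haveI : ∀ i, QuasiSeparatedSpace (D.obj i) := fun i =>
    haveI := hfst i.unop
    show QuasiSeparatedSpace ↥(pullback P.hom (sp i.unop)) from
      quasiSeparatedSpace_of_quasiSeparated (pullback.fst P.hom (sp i.unop))
  haveI : LocallyOfFinitePresentation Q.hom := LocallyOfFinitePresentation.iff_locallyOfFiniteType.2 inferInstance
  let t : D ⟶ (Functor.const _).obj (Spec (CommRingCat.of k)) :=
    { app := fun i => pullback.fst P.hom (sp i.unop) ≫ P.hom
      naturality := fun i j f => by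
        show pullback.lift _ _ _ ≫ _ = (_ ≫ _) ≫ 𝟙 _
        rw [Category.comp_id]
        erw [pullback.lift_fst_assoc] }
  let a₀ : c.pt ⟶ Q.left := a.left ≫ pullback.fst Q.hom (AbVar.ext k K)
  have ha : c.π ≫ t = (Functor.const _).map (a₀ ≫ Q.hom) := by
    ext i
    show prL P.hom i.unop ≫ pullback.fst P.hom (sp i.unop) ≫ P.hom =
      (a.left ≫ pullback.fst Q.hom (AbVar.ext k K)) ≫ Q.hom
    rw [reassoc_of% (prL_fst P.hom i.unop)]
    refine pullback.condition.trans ?_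
    rw [Category.assoc, pullback.condition, ← Category.assoc]
    exact congrArg (· ≫ _) (Over.w a).symm
  obtain ⟨i, b, hb, hbf⟩ :=
    Scheme.exists_π_app_comp_eq_of_locallyOfFinitePresentation D t Q.hom c (isLimitBcCone (K := K) P.hom) a₀ ha
  refine ⟨i.unop, fun L hL => ?_⟩
  let tr : XL P.hom L ⟶ XL P.hom i.unop := D.map (homOfLE hL).op
  have htr : tr ≫ pullback.fst P.hom (sp i.unop) = pullback.fst P.hom (sp L) := pullback.lift_fst _ _ _
  have hw : prL P.hom L ≫ tr = prL P.hom i.unop := c.w (homOfLE hL).op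
  let aL : Red.bc (sp L) P ⟶ Red.bc (sp L) Q :=
    Over.homMk (pullback.lift (tr ≫ b) (pullback.snd P.hom (sp L)) (by
      refine (Category.assoc _ _ _).trans ((congrArg (tr ≫ ·) hbf).trans ?_)
      show tr ≫ pullback.fst P.hom (sp i.unop) ≫ P.hom = _
      rw [reassoc_of% htr]
      exact pullback.condition)) (pullback.lift_snd _ _ _)
  refine ⟨aL, fun φP φQ hP hQ => Over.OverMorphism.ext (pullback.hom_ext ?_ ((Over.w _).trans (Over.w _).symm))⟩
  have hl : ((Over.pullback (AbVar.ext L.1 K)).map aL).left ≫ pullback.fst (Red.bc (sp L) Q).hom (AbVar.ext L.1 K) =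
      pullback.fst (Red.bc (sp L) P).hom (AbVar.ext L.1 K) ≫ aL.left := pullback.lift_fst _ _ _
  have haL : aL.left ≫ pullback.fst Q.hom (sp L) = tr ≫ b := pullback.lift_fst _ _ _
  have hφ : φP.left ≫ prL P.hom L = pullback.fst (Red.bc (sp L) P).hom (AbVar.ext L.1 K) :=
    comp_prL P.hom φP.left _ _ (Over.w φP) hP pullback.condition
  simp only [Over.comp_left, Category.assoc, hQ]
  rw [reassoc_of% hl, haL, show a.left ≫ pullback.fst Q.hom (AbVar.ext k K) = prL P.hom i.unop ≫ b from hb.symm,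
    ← hw, Category.assoc, reassoc_of% hφ]

section Abstract

universe v v' v'' w w' w''

variable {C : Type w} [Category.{v} C] [CartesianMonoidalCategory C] {D : Type w'} [Category.{v'} D]
  [CartesianMonoidalCategory D] {E' : Type w''} [Category.{v''} E'] [CartesianMonoidalCategory E']

theorem semantics_mul (F : C ⥤ E') (F' : C ⥤ D) [F'.Monoidal] (FL : D ⥤ E') {X₀ : C} {G : E'} [MonObj G]
    (mL : F'.obj (X₀ ⊗ X₀) ⟶ F'.obj X₀) (φ : FL.obj (F'.obj X₀) ⟶ F.obj X₀)
    (φP : FL.obj (F'.obj (X₀ ⊗ X₀)) ⟶ F.obj (X₀ ⊗ X₀)) (e : F.obj X₀ ⟶ G) (m : F.obj (X₀ ⊗ X₀) ⟶ F.obj X₀)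
    (hm : m ≫ e = (F.map (fst X₀ X₀) ≫ e) * (F.map (snd X₀ X₀) ≫ e))
    (hmL : FL.map mL ≫ φ = φP ≫ m)
    (hf : FL.map (F'.map (fst X₀ X₀)) ≫ φ = φP ≫ F.map (fst X₀ X₀))
    (hs : FL.map (F'.map (snd X₀ X₀)) ≫ φ = φP ≫ F.map (snd X₀ X₀))
    {T : D} (a b : T ⟶ F'.obj X₀) :
    FL.map (lift a b ≫ Functor.LaxMonoidal.μ F' X₀ X₀ ≫ mL) ≫ φ ≫ e =
      (FL.map a ≫ φ ≫ e) * (FL.map b ≫ φ ≫ e) := by
  rw [← Category.assoc (lift a b), FL.map_comp, Category.assoc, reassoc_of% hmL, hm, MonObj.comp_mul,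
    MonObj.comp_mul]
  congr 1
  · rw [← reassoc_of% hf, ← Category.assoc, ← FL.map_comp, Category.assoc, Functor.Monoidal.μ_fst, lift_fst]
  · rw [← reassoc_of% hs, ← Category.assoc, ← FL.map_comp, Category.assoc, Functor.Monoidal.μ_snd, lift_snd]

theorem semantics_const (FL : D ⥤ E') {U X : D} {U' X' G : E'} [MonObj G]
    (oL : U ⟶ X) (φU : FL.obj U ⟶ U') (φ : FL.obj X ⟶ X') (o : U' ⟶ X') (e : X' ⟶ G) (ho : o ≫ e = 1)
    (hoL : FL.map oL ≫ φ = φU ≫ o) {T : D} (z : T ⟶ U) : FL.map (z ≫ oL) ≫ φ ≫ e = 1 := by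
  rw [FL.map_comp, Category.assoc, reassoc_of% hoL, ho, MonObj.comp_one, MonObj.comp_one]

theorem semantics_inv (FL : D ⥤ E') {X : D} {X' G : E'} [GrpObj G] (iL : X ⟶ X) (φ : FL.obj X ⟶ X') (i : X' ⟶ X')
    (e : X' ⟶ G) (hi : i ≫ e = e⁻¹) (hiL : FL.map iL ≫ φ = φ ≫ i) {T : D} (a : T ⟶ X) :
    FL.map (a ≫ iL) ≫ φ ≫ e = (FL.map a ≫ φ ≫ e)⁻¹ := by
  rw [FL.map_comp, Category.assoc, reassoc_of% hiL, hi, GrpObj.comp_inv, GrpObj.comp_inv]

theorem exists_grp_of_semantics (FL : D ⥤ E') [FL.Monoidal] {X₁ : D} {G : E'} [GrpObj G] (E : FL.obj X₁ ⟶ G)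
    (m₁ : X₁ ⊗ X₁ ⟶ X₁) (o₁ : 𝟙_ D ⟶ X₁) (iL : X₁ ⟶ X₁)
    (hinj : ∀ {T : D} {a b : T ⟶ X₁}, FL.map a ≫ E = FL.map b ≫ E → a = b)
    (hm : ∀ {T : D} (a b : T ⟶ X₁), FL.map (lift a b ≫ m₁) ≫ E = (FL.map a ≫ E) * (FL.map b ≫ E))
    (ho : ∀ T : D, FL.map (toUnit T ≫ o₁) ≫ E = 1)
    (hi : ∀ {T : D} (a : T ⟶ X₁), FL.map (a ≫ iL) ≫ E = (FL.map a ≫ E)⁻¹) :
    ∃ gX : GrpObj X₁, (Functor.LaxMonoidal.ε FL ≫ FL.map gX.one) ≫ E = η[G] ∧
      (Functor.LaxMonoidal.μ FL X₁ X₁ ≫ FL.map gX.mul) ≫ E = (E ⊗ₘ E) ≫ μ[G] := by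
  letI gX : GrpObj X₁ :=
    { one := o₁
      mul := m₁
      one_mul := by
        refine hinj ?_
        rw [show o₁ ▷ X₁ = lift (toUnit _ ≫ o₁) (snd _ _) by
            apply CartesianMonoidalCategory.hom_ext
            · rw [whiskerRight_fst, lift_fst]; congr 1; exact toUnit_unique _ _
            · rw [whiskerRight_snd, lift_snd],
          hm, ho, _root_.one_mul, leftUnitor_hom]
      mul_one := by
        refine hinj ?_
        rw [show X₁ ◁ o₁ = lift (fst _ _) (toUnit _ ≫ o₁) by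
            apply CartesianMonoidalCategory.hom_ext
            · rw [whiskerLeft_fst, lift_fst]
            · rw [whiskerLeft_snd, lift_snd]; congr 1; exact toUnit_unique _ _,
          hm, ho, _root_.mul_one, rightUnitor_hom]
      mul_assoc := by
        refine hinj ?_
        rw [show m₁ ▷ X₁ = lift (lift (fst _ _ ≫ fst _ _) (fst _ _ ≫ snd _ _) ≫ m₁) (snd _ _) by
            apply CartesianMonoidalCategory.hom_ext
            · rw [whiskerRight_fst, lift_fst]; congr 1; ext <;> simp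
            · rw [whiskerRight_snd, lift_snd],
          show (α_ X₁ X₁ X₁).hom ≫ X₁ ◁ m₁ ≫ m₁ =
              lift (fst _ _ ≫ fst _ _) (lift (fst _ _ ≫ snd _ _) (snd _ _) ≫ m₁) ≫ m₁ by
            rw [← Category.assoc]
            congr 1
            apply CartesianMonoidalCategory.hom_ext
            · simp
            · rw [Category.assoc, whiskerLeft_snd, lift_snd, ← Category.assoc]; congr 1; ext <;> simp,
          hm, hm, hm, hm, _root_.mul_assoc]
      inv := iL
      left_inv := hinj (by rw [hm, ho, ← Category.id_comp iL, hi, inv_mul_cancel])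
      right_inv := hinj (by rw [hm, ho, ← Category.id_comp iL, hi, mul_inv_cancel]) }
  refine ⟨gX, ?_, ?_⟩
  · show (Functor.LaxMonoidal.ε FL ≫ FL.map o₁) ≫ E = η[G]
    have e0 := ho (𝟙_ _)
    rw [toUnit_unique (toUnit (𝟙_ _)) (𝟙 _), Category.id_comp] at e0
    rw [Category.assoc, e0, MonObj.comp_one, Hom.one_def,
      toUnit_unique (toUnit (𝟙_ _)) (𝟙 _), Category.id_comp]
  · show (Functor.LaxMonoidal.μ FL X₁ X₁ ≫ FL.map m₁) ≫ E = (E ⊗ₘ E) ≫ μ[G]
    have e0 := hm (fst X₁ X₁) (snd X₁ X₁)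
    rw [lift_fst_snd, Category.id_comp] at e0
    rw [Category.assoc, e0, MonObj.comp_mul, Functor.Monoidal.μ_fst_assoc, Functor.Monoidal.μ_snd_assoc, Hom.mul_def]
    congr 1
    apply CartesianMonoidalCategory.hom_ext <;> simp

end Abstract

/-- a group structure on the base change of a model descends to a finite stage -/
theorem exists_grp_stage {X₀ : Over (Spec (CommRingCat.of k))} [LocallyOfFiniteType X₀.hom] [QuasiCompact X₀.hom]
    {G : Over (Spec (CommRingCat.of K))} [GrpObj G] (e : Red.bc (AbVar.ext k K) X₀ ⟶ G) [IsIso e] :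
    ∃ (L : FSub k K) (X₁ : Over (Spec (CommRingCat.of L.1))) (_ : GrpObj X₁) (E : Red.bc (AbVar.ext L.1 K) X₁ ⟶ G),
      IsIso E ∧ IsMonHom E ∧ LocallyOfFiniteType X₁.hom ∧ QuasiCompact X₁.hom := by
  let F := Over.pullback (AbVar.ext k K)
  haveI : IsSeparated G.hom := Groth.Agent.AV.isSeparated_of_grpObj G
  haveI : IsSeparated (Red.bc (AbVar.ext k K) X₀).hom := by
    haveI : IsIso e.left := inferInstanceAs (IsIso ((Over.forget _).map e))
    rw [← Over.w e]; infer_instance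
  haveI : MorphismProperty.DescendsAlong @IsSeparated
      (@Surjective ⊓ @Flat ⊓ @QuasiCompact : MorphismProperty Scheme.{u}) := Groth.Agent.S0081.result
  haveI : IsSeparated X₀.hom := Groth.L08.ChevPerf.descends (K := K) @IsSeparated X₀ inferInstance
  haveI : CompactSpace X₀.left := QuasiCompact.compactSpace_of_compactSpace X₀.hom
  haveI : QuasiSeparatedSpace X₀.left := quasiSeparatedSpace_of_quasiSeparated X₀.hom
  haveI : QuasiCompact (X₀ ⊗ X₀).hom := inferInstanceAs (QuasiCompact (pullback.fst X₀.hom X₀.hom ≫ X₀.hom))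
  haveI : IsSeparated (X₀ ⊗ X₀).hom := inferInstanceAs (IsSeparated (pullback.fst X₀.hom X₀.hom ≫ X₀.hom))
  haveI : CompactSpace (X₀ ⊗ X₀).left := QuasiCompact.compactSpace_of_compactSpace (X₀ ⊗ X₀).hom
  haveI : QuasiSeparatedSpace (X₀ ⊗ X₀).left := quasiSeparatedSpace_of_quasiSeparated (X₀ ⊗ X₀).hom
  let U := 𝟙_ (Over (Spec (CommRingCat.of k)))
  haveI : CompactSpace U.left := inferInstanceAs (CompactSpace ↥(Spec (CommRingCat.of k)))
  haveI : QuasiSeparatedSpace U.left := inferInstanceAs (QuasiSeparatedSpace ↥(Spec (CommRingCat.of k)))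
  obtain ⟨Lm, hLm⟩ := exists_map_stage
    (((F.map (fst X₀ X₀) ≫ e) * (F.map (snd X₀ X₀) ≫ e)) ≫ CategoryTheory.inv e)
  obtain ⟨Lo, hLo⟩ := exists_map_stage ((1 : F.obj U ⟶ G) ≫ CategoryTheory.inv e)
  obtain ⟨Li, hLi⟩ := exists_map_stage (e⁻¹ ≫ CategoryTheory.inv e)
  obtain ⟨L', h1, h2⟩ := exists_ge_ge Lm Lo
  obtain ⟨L, h3, h4⟩ := exists_ge_ge L' Li
  obtain ⟨mL, hmL⟩ := hLm L (h1.trans h3)
  obtain ⟨oL, hoL⟩ := hLo L (h2.trans h3)
  obtain ⟨iL, hiL⟩ := hLi L h4
  let F' := Over.pullback (sp (K := K) L)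
  let FL := Over.pullback (AbVar.ext L.1 K)
  obtain ⟨φ, _, hφ⟩ := exists_comparison_obj (AbVar.ext L.1 K) (sp L) (AbVar.ext k K) (ext_comp_sp L) X₀
  obtain ⟨φP, _, hφP⟩ := exists_comparison_obj (AbVar.ext L.1 K) (sp L) (AbVar.ext k K) (ext_comp_sp L) (X₀ ⊗ X₀)
  obtain ⟨φU, _, hφU⟩ := exists_comparison_obj (AbVar.ext L.1 K) (sp L) (AbVar.ext k K) (ext_comp_sp L) U
  let X₁ := Red.bc (sp L) X₀
  let E : FL.obj X₁ ⟶ G := φ ≫ e
  haveI : IsIso E := inferInstanceAs (IsIso (φ ≫ e))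
  obtain ⟨gX, hone, hmul⟩ := exists_grp_of_semantics FL E (Functor.LaxMonoidal.μ F' X₀ X₀ ≫ mL)
    (Functor.LaxMonoidal.ε F' ≫ oL) iL
    (fun {T a b} e' => bc_faithful (k := L.1) (K := K) a b ((cancel_mono E).1 e'))
    (fun a b => semantics_mul F F' FL mL φ φP e _
      (by rw [Category.assoc, IsIso.inv_hom_id, Category.comp_id]) (hmL φP φ hφP hφ)
      (comparison_natural _ _ _ φP hφP φ hφ (fst X₀ X₀)) (comparison_natural _ _ _ φP hφP φ hφ (snd X₀ X₀)) a b)
    (fun T => by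
      rw [← Category.assoc (toUnit T)]
      exact semantics_const FL oL φU φ _ e (by rw [Category.assoc, IsIso.inv_hom_id, Category.comp_id])
        (hoL φU φ hφU hφ) _)
    (fun a => semantics_inv FL iL φ _ e (by rw [Category.assoc, IsIso.inv_hom_id, Category.comp_id])
      (hiL φ φ hφ hφ) a)
  letI := gX
  haveI : IsMonHom E := ⟨hone, hmul⟩
  exact ⟨L, X₁, gX, E, ‹_›, ‹_›, inferInstanceAs (LocallyOfFiniteType (pullback.snd X₀.hom (sp L))),
    inferInstanceAs (QuasiCompact (pullback.snd X₀.hom (sp L)))⟩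

end Groth.L08.SmallNorm
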