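import Groth.Agent.L08.ChevPerf.Functorial
import Groth.Agent.L08.Chev.Reduce

/-!
# Disconnected smooth groups over an algebraically closed field
-/

set_option autoImplicit false
set_option backward.isDefEq.respectTransparency.types false
set_option linter.style.haveILetI false
set_option linter.unusedSectionVars false

universe u

open CategoryTheory CategoryTheory.Limits MonoidalCategory CartesianMonoidalCategory MonObj AlgebraicGeometry
open Groth.L08.Chev

noncomputable section

namespace Groth.L08.SmallNorm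

variable {k : Type u} [Field k] {G G₀ L A : Over (Spec (CommRingCat.of k))} [GrpObj G] [GrpObj G₀] [GrpObj L] [GrpObj A]

/-- conjugation by a rational point -/
theorem isMonHom_conj (t : SP k k ⟶ G) (m : L ⟶ G) [IsMonHom m] :
    IsMonHom ((str L ≫ t) * m * (str L ≫ t)⁻¹) := by
  have hc : ∀ {T : Over (Spec (CommRingCat.of k))} (a b : T ⟶ L), a ≫ str L ≫ t = b ≫ str L ≫ t := fun a b => by
    rw [← Category.assoc, ← Category.assoc, hom_to_SP_ext (a ≫ str L) (b ≫ str L)]
  constructor
  · rw [MonObj.comp_mul, MonObj.comp_mul, GrpObj.comp_inv, IsMonHom.one_hom (f := m),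
      show (η[G] : 𝟙_ _ ⟶ G) = 1 by rw [Hom.one_def, toUnit_unique (toUnit (𝟙_ _)) (𝟙 _), Category.id_comp],
      _root_.mul_one, mul_inv_cancel]
  · have hm : μ[L] ≫ m = (fst L L ≫ m) * (snd L L ≫ m) := by
      rw [show μ[L] = fst L L * snd L L by rw [Hom.mul_def, lift_fst_snd, Category.id_comp], MonObj.mul_comp]
    have hμ : ∀ σ : L ⟶ G, (σ ⊗ₘ σ) ≫ μ[G] = (fst L L ≫ σ) * (snd L L ≫ σ) := fun σ => by
      rw [Hom.mul_def]; congr 1
    rw [hμ]
    simp only [MonObj.comp_mul, GrpObj.comp_inv]
    rw [hm, hc μ[L] (fst L L), hc (snd L L) (fst L L)]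
    group

variable [IsAlgClosed k]

/-- the affine part of the identity component is stable under conjugation -/
theorem conj_range [LocallyOfFiniteType G.hom] {j : G₀ ⟶ G} (hj : IdCompData j) (l : L ⟶ G₀) [IsMonHom l]
    [IsClosedImmersion l.left] [Smooth L.hom] [ConnectedSpace L.left] [IsAffine L.left]
    (α : G₀ ⟶ A) [IsMonHom α] [IsProper A.hom] (hker : AlgGrp.IsKernel l α) :
    Set.range (fst G L * (snd G L ≫ l ≫ j) * (fst G L)⁻¹).left ⊆ Set.range (l ≫ j).left := by
  haveI := hj.hom
  haveI := hj.closedImm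
  haveI := hj.openImm
  haveI : Mono j := Over.mono_of_mono_left j
  haveI : IsClosedImmersion (l ≫ j).left := inferInstanceAs (IsClosedImmersion (l.left ≫ j.left))
  haveI : IsMonHom (l ≫ j) := inferInstance
  haveI : LocallyOfFiniteType (G ⊗ L).hom :=
    inferInstanceAs (LocallyOfFiniteType (pullback.fst G.hom L.hom ≫ G.hom))
  set C := fst G L * (snd G L ≫ l ≫ j) * (fst G L)⁻¹
  have hpts : ∀ t : SP k k ⟶ G ⊗ L, pt (t ≫ C) ∈ Set.range (l ≫ j).left := by
    intro t
    let σ := (str L ≫ t ≫ fst G L) * (l ≫ j) * (str L ≫ t ≫ fst G L)⁻¹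
    haveI : IsMonHom σ := isMonHom_conj (t ≫ fst G L) (l ≫ j)
    obtain ⟨z, hz⟩ := hj.exists_lift_hom σ
    haveI : IsMonHom z := by
      haveI : IsMonHom (z ≫ j) := by rw [hz]; infer_instance
      exact isMonHom_of_comp z j
    obtain ⟨w, hw, -⟩ := hker.exists_lift z (toUnit L) (by rw [hom_to_proper_eq_one (z ≫ α), Hom.one_def])
    have e : t ≫ C = (t ≫ snd G L) ≫ σ := by
      simp only [C, σ, MonObj.comp_mul, GrpObj.comp_inv, Category.assoc]
      rw [← Category.assoc (snd G L) (str L), ← Category.assoc t (snd G L ≫ str L),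
        hom_to_SP_ext (t ≫ snd G L ≫ str L) (𝟙 _), Category.id_comp]
    rw [e, ← hz, ← hw]
    refine ⟨((t ≫ snd G L) ≫ w).left (IsLocalRing.closedPoint k), ?_⟩
    simp only [pt, Over.comp_left, Scheme.Hom.comp_apply]
  by_contra hne
  rw [Set.not_subset] at hne
  obtain ⟨_, ⟨x, rfl⟩, hx⟩ := hne
  obtain ⟨t, ht⟩ := exists_point_mem (X := G ⊗ L) (O := C.left ⁻¹' (Set.range (l ≫ j).left)ᶜ)
    ((l ≫ j).left.isClosedEmbedding.isClosed_range.isOpen_compl.preimage C.left.continuous).isLocallyClosed ⟨x, hx⟩
  exact ht (hpts t)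

/-- a quotient of a group whose identity component has proper image is proper -/
theorem isProper_quotient [LocallyOfFiniteType G.hom] [QuasiCompact G.hom] {j : G₀ ⟶ G} (hj : IdCompData j)
    (l : L ⟶ G₀) (α : G₀ ⟶ A) [IsMonHom α] [Surjective α.left] [Flat α.left] [LocallyOfFinitePresentation α.left]
    [IsProper A.hom] (hker : AlgGrp.IsKernel l α) {Q : Over (Spec (CommRingCat.of k))} [GrpObj Q]
    [LocallyOfFiniteType Q.hom] [QuasiCompact Q.hom] (q : G ⟶ Q) [IsMonHom q] [Surjective q.left] [Flat q.left]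
    [LocallyOfFinitePresentation q.left] (hlq : l ≫ j ≫ q = 1) : IsProper Q.hom := by
  haveI := hj.hom
  haveI := hj.openImm
  haveI := hj.connectedSpace
  haveI : IsSeparated Q.hom := AbelianGrp.isSeparated Q
  haveI : IsLocallyNoetherian Q.left := LocallyOfFiniteType.isLocallyNoetherian Q.hom
  obtain ⟨β, hβ, hαβ⟩ := Groth.L08.ChevPerf.exists_hom_desc l α hker (j ≫ q) hlq
  refine isProper_of_component Q β ?_ inferInstance
  haveI : ConnectedSpace A.left := α.left.surjective.connectedSpace α.left.continuous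
  haveI : IsProper β.left := by
    haveI : IsProper (β.left ≫ Q.hom) := by rw [Over.w β]; infer_instance
    exact IsProper.of_comp β.left Q.hom
  have hone : Groth.L25.Component.one Q ∈ Set.range β.left :=
    ⟨Groth.L25.Component.one A, congr(($(IsMonHom.one_hom (f := β))).left (IsLocalRing.closedPoint k))⟩
  have hrange : Set.range β.left = Set.range (j ≫ q).left := by
    rw [← hαβ, Over.comp_left, Scheme.Hom.comp_base, TopCat.coe_comp, Set.range_comp, α.left.surjective.range_eq,
      Set.image_univ]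
  have hclopen : IsClopen (Set.range β.left) :=
    ⟨β.left.isClosedMap.isClosed_range, by
      rw [hrange, Over.comp_left, Scheme.Hom.comp_base, TopCat.coe_comp, Set.range_comp]
      exact q.left.isOpenMap _ j.left.isOpenEmbedding.isOpen_range⟩
  exact Set.Subset.antisymm ((isPreconnected_range β.left.continuous).subset_connectedComponent hone)
    (hclopen.connectedComponent_subset hone)

end Groth.L08.SmallNorm
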