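import Groth.Agent.L08.SmallNorm.GaffFun
import Groth.Agent.L00.IsogenyDual
import Groth.Agent.L26.AV.Isogeny
import Groth.Agent.L15.KerFlat.Basic
import Groth.Agent.L08.Albanese.Isogeny
import Groth.Agent.S0086

/-!
# Extension classes of commutative group varieties of finite order
-/

set_option autoImplicit false
set_option backward.isDefEq.respectTransparency.types false
set_option linter.style.haveILetI false
set_option linter.unusedSectionVars false

universe u

open CategoryTheory CategoryTheory.Limits MonoidalCategory CartesianMonoidalCategory MonObj AlgebraicGeometry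
open Groth.L08.Chev

noncomputable section

namespace Groth.L08.SmallNorm

variable {k : Type u} [Field k]

/-- a surjective homomorphism of abelian varieties with finite kernel has a quasi-inverse -/
theorem exists_quasiInverse {X Y K : Over (Spec (CommRingCat.of k))} [GrpObj X] [GrpObj Y] [IsProper X.hom]
    [Smooth X.hom] [ConnectedSpace X.left] [IsProper Y.hom] [Smooth Y.hom] [ConnectedSpace Y.left]
    (f : X ⟶ Y) [IsMonHom f] [Surjective f.left] (κ : K ⟶ X) (hker : AlgGrp.IsKernel κ f) [IsFinite K.hom] :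
    IsFinite f.left ∧ ∃ (n : ℕ) (g : Y ⟶ X), 0 < n ∧ IsMonHom g ∧ g ≫ f = 𝟙 Y ^ n := by
  haveI : GeometricallyReduced X.hom := Groth.Agent.AV.geometricallyReduced_of_smooth X.hom
  haveI : GeometricallyReduced Y.hom := Groth.Agent.AV.geometricallyReduced_of_smooth Y.hom
  haveI : GeometricallyIntegral X.hom := Groth.Agent.AV.geometricallyIntegral_of_connected X
  haveI : GeometricallyIntegral Y.hom := Groth.Agent.AV.geometricallyIntegral_of_connected Y
  haveI : GeometricallyConnected X.hom := Groth.Agent.AV.Isogeny.geometricallyConnected X.hom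
  haveI : GeometricallyConnected Y.hom := Groth.Agent.AV.Isogeny.geometricallyConnected Y.hom
  haveI : IsReduced Y.left := Groth.Agent.AV.isReduced_of_smooth_field Y.hom
  haveI hfl : Flat f.left := Groth.L08.FlatHom.flat_of_surjective X Y f
  haveI : IsProper f.left := by
    haveI : IsProper (f.left ≫ Y.hom) := by rw [Over.w]; infer_instance
    exact IsProper.of_comp f.left Y.hom
  haveI hfin : IsFinite (fst X K).left := MorphismProperty.pullback_fst (P := @IsFinite) X.hom K.hom ‹_›
  have sq : IsPullback (fst X K).left (fst X K * (snd X K ≫ κ)).left f.left f.left :=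
    (Groth.L15.KerFlat.isPullback_kernelPair hker).map (Over.forget _)
  haveI : IsAffineHom f.left :=
    MorphismProperty.of_isPullback_of_descendsAlong (P := @IsAffineHom)
      (Q := @Surjective ⊓ @Flat ⊓ @QuasiCompact) sq ⟨⟨inferInstance, hfl⟩, inferInstance⟩
      (inferInstanceAs (IsAffineHom (fst X K).left))
  haveI : IsFinite f.left := IsFinite.iff_isProper_and_isAffineHom.2 ⟨‹_›, ‹_›⟩
  refine ⟨‹_›, ?_⟩
  set n := Scheme.Hom.finrank f.left (η[Y].left (IsLocalRing.closedPoint k)) with hn
  haveI := Groth.L08.ChevPerf.lfp_left f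
  have hn1 : 1 ≤ n := (Scheme.Hom.one_le_finrank_iff_surjective (f := f.left)).2 ‹_› _
  have hdeg : ∀ s : ↥(Spec (CommRingCat.of k)), Scheme.Hom.finrank f.left (η[Y].left s) = n := fun s => by
    rw [hn, Subsingleton.elim (α := PrimeSpectrum k) s (IsLocalRing.closedPoint k)]
  obtain ⟨⟨g, ⟨hg, hfg⟩, -⟩, h2⟩ := Groth.L00.IsogDual.exists_factor f n hn1 hdeg
  exact ⟨n, g, hn1, hg, (h2 g hg hfg).1⟩

/-- an extension class has finite order iff an abelian subvariety surjects -/
theorem section_pow_iff {G L A : Over (Spec (CommRingCat.of k))} [GrpObj G] [GrpObj L] [GrpObj A]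
    [LocallyOfFiniteType G.hom] [QuasiCompact G.hom]
    (i : L ⟶ G) [IsMonHom i] [IsClosedImmersion i.left] [IsAffine L.left]
    (π : G ⟶ A) [IsMonHom π] [Surjective π.left] (hker : AlgGrp.IsKernel i π)
    [IsProper A.hom] [Smooth A.hom] [ConnectedSpace A.left] :
    (∃ d : ℕ, 0 < d ∧ ∃ s : A ⟶ G, IsMonHom s ∧ s ≫ π = 𝟙 A ^ d) ↔
      (∃ (A' : Over (Spec (CommRingCat.of k))) (_ : GrpObj A') (j : A' ⟶ G), IsMonHom j ∧ IsClosedImmersion j.left ∧
        Smooth A'.hom ∧ ConnectedSpace ↥A'.left ∧ IsProper A'.hom ∧ Surjective ((j ⊗ₘ i) ≫ μ[G]).left) := by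
  haveI : IsSeparated G.hom := Groth.Agent.AV.isSeparated_of_grpObj G
  haveI : LocallyOfFiniteType A.hom := inferInstance
  haveI : GeometricallyReduced A.hom := Groth.Agent.AV.geometricallyReduced_of_smooth A.hom
  haveI : GeometricallyIntegral A.hom := Groth.Agent.AV.geometricallyIntegral_of_connected A
  constructor
  · rintro ⟨d, hd, s, hs, hsπ⟩
    haveI := hs
    obtain ⟨C, gC, p, j, _, _, hpj, _, _, _, _⟩ := Groth.L08.AbelianGrp.exists_image s
    haveI : LocallyOfFiniteType C.hom := by rw [← Over.w j]; infer_instance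
    haveI : QuasiCompact C.hom := by rw [← Over.w j]; infer_instance
    obtain ⟨-, hC1, hC2⟩ := Groth.Agent.S7983.result k A C p
    haveI : IsSeparated C.hom := Groth.Agent.AV.isSeparated_of_grpObj C
    haveI : IsProper C.hom := isProper_of_surjective p
    haveI : Surjective (𝟙 A ^ d).left := Groth.L08.Cube.surjective_pow (A := A) hd
    haveI : Surjective (j ≫ π).left := by
      haveI : Surjective (p.left ≫ (j ≫ π).left) := by
        rw [← Over.comp_left, ← Category.assoc, hpj, hsπ]; infer_instance
      exact Surjective.of_comp p.left (j ≫ π).left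
    exact ⟨C, gC, j, ‹_›, ‹_›, hC1 ‹_›, hC2 ‹_›, ‹_›, (surjective_mul_of_surjective i j π hker ‹_›).2⟩
  · rintro ⟨A', gA', j, _, _, _, _, _, hsurj⟩
    haveI := hsurj
    have hi : i ≫ π = 1 := by rw [hker.w, Hom.one_def]
    haveI : Surjective (j ≫ π).left := by
      have e : ((j ⊗ₘ i) ≫ μ[G]) ≫ π = fst A' L ≫ j ≫ π := by
        rw [show (j ⊗ₘ i) ≫ μ[G] = (fst A' L ≫ j) * (snd A' L ≫ i) by rw [Hom.mul_def]; congr 1, MonObj.mul_comp,
          Category.assoc (snd A' L), hi, MonObj.comp_one, _root_.mul_one, Category.assoc]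
      haveI : Surjective ((fst A' L).left ≫ (j ≫ π).left) := by
        rw [← Over.comp_left, ← e, Over.comp_left]; infer_instance
      exact Surjective.of_comp (fst A' L).left _
    obtain ⟨K, gK, κ, _, _, -, hκ⟩ := Groth.L08.AbelianGrp.exists_kernel (j ≫ π)
    obtain ⟨z, hz, -⟩ := hker.exists_lift (κ ≫ j) (toUnit K) (by rw [Category.assoc, hκ.w])
    haveI : IsClosedImmersion z.left := by
      haveI : IsClosedImmersion (z.left ≫ i.left) := by
        rw [← Over.comp_left, hz, Over.comp_left]; infer_instance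
      exact IsClosedImmersion.of_comp z.left i.left
    haveI : IsAffine K.left := isAffine_of_isAffineHom z.left
    haveI : IsProper K.hom := by rw [← Over.w κ]; infer_instance
    haveI : IsAffineHom K.hom := inferInstance
    haveI : IsFinite K.hom := IsFinite.iff_isProper_and_isAffineHom.2 ⟨‹_›, ‹_›⟩
    obtain ⟨-, n, g, hn, hg, hgf⟩ := exists_quasiInverse (j ≫ π) κ hκ
    exact ⟨n, hn, g ≫ j, inferInstance, by rw [Category.assoc]; exact hgf⟩

end Groth.L08.SmallNorm
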