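import Groth.Agent.L14.HM.Gen.Embed
import Mathlib.RingTheory.HopfAlgebra.Convolution
import Mathlib.LinearAlgebra.Matrix.CharP
import Mathlib.FieldTheory.Finite.Basic
import Mathlib.FieldTheory.IntermediateField.Adjoin.Basic

/-!
# Frobenius on points of commutative linear groups over finite fields
-/

set_option autoImplicit false
set_option linter.style.haveILetI false
set_option linter.unusedSectionVars false

universe u

open TensorProduct WithConv

noncomputable section

namespace Groth.L08.SmallNorm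

variable {k : Type u} [Field k] [Finite k] (p n : ℕ) [hp : Fact p.Prime] [CharP k p]
  {A : Type u} [CommRing A] [HopfAlgebra k A] [Algebra.FiniteType k A] [Coalgebra.IsCocomm k A]
  {K : Type u} [Field K] [Algebra k K] [Algebra.IsAlgebraic k K] [CharP K p]

omit [Finite k] [CharP k p] [HopfAlgebra k A] [Algebra.FiniteType k A] [Coalgebra.IsCocomm k A] [CharP K p] hp in
/-- finitely many elements of an algebraic extension of a finite field lie in a finite field -/
theorem exists_finite_sub [Finite k] (s : Set K) (hs : s.Finite) :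
    ∃ L : IntermediateField k K, FiniteDimensional k L ∧ Finite L ∧ s ⊆ L := by
  haveI : FiniteDimensional k (IntermediateField.adjoin k s) := by
    haveI := hs.to_subtype
    exact IntermediateField.finiteDimensional_adjoin fun x _ => Algebra.IsIntegral.isIntegral x
  exact ⟨_, ‹_›, Module.finite_of_finite k, IntermediateField.subset_adjoin k s⟩

omit hp in
theorem card_pow_fix (L : IntermediateField k K) [FiniteDimensional k L] [Finite L] (m : ℕ)
    (hm : Module.finrank k L ∣ m) (x : K) (hx : x ∈ L) : x ^ (Nat.card k ^ m) = x := by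
  obtain ⟨c, rfl⟩ := hm
  rw [pow_mul, ← Module.natCard_eq_pow_finrank (K := k) (V := L)]
  induction c with
  | zero => simp
  | succ c ih =>
    rw [pow_succ, pow_mul, ih]
    haveI : Fintype L := Fintype.ofFinite L
    have := FiniteField.pow_card (⟨x, hx⟩ : L)
    rw [← Nat.card_eq_fintype_card] at this
    exact congrArg Subtype.val this

/-- **On points of a commutative linear group over a finite field the Frobenius is, up to `p`-power,
a power map.** -/
theorem exists_frob_kills_alg (hq : Nat.card k = p ^ n) :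
    ∃ r m : ℕ, 0 < m ∧ ∀ g g' : WithConv (A →ₐ[k] K),
      (∀ x : A, g'.ofConv x = g.ofConv x ^ (Nat.card k ^ m)) → g' ^ (p ^ r) = g ^ (Nat.card k ^ m * p ^ r) := by
  classical
  haveI : ExpChar K p := ExpChar.prime hp.out
  obtain ⟨d, a, ha, hgen⟩ := Groth.L14.HM.Gen.exists_comatrix_of_subcomod (k := k) (A := A)
  rcases Nat.eq_zero_or_pos d with rfl | hd
  · refine ⟨0, 1, one_pos, fun g g' _ => ?_⟩
    have h : ∀ f f' : WithConv (A →ₐ[k] K), f = f' := fun f f' => WithConv.ext (by
      refine AlgHom.ext_of_adjoin_eq_top hgen ?_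
      rintro _ ⟨⟨i, _⟩, rfl⟩
      exact i.elim0)
    exact h _ _
  haveI : Nonempty (Fin d) := ⟨⟨0, hd⟩⟩
  let M : WithConv (A →ₐ[k] K) →* Matrix (Fin d) (Fin d) K :=
    { toFun := fun g => Matrix.of fun i j => g.ofConv (a i j)
      map_one' := by
        ext i j
        simp [AlgHom.convOne_apply, ha.counit_eq, Matrix.one_apply, apply_ite (algebraMap k K)]
      map_mul' := fun f g => by
        ext i j
        simp only [Matrix.of_apply, Matrix.mul_apply, AlgHom.convMul_apply, ha.comul_eq, map_sum,
          Algebra.TensorProduct.lift_tmul] }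
  have hM : ∀ g i j, M g i j = g.ofConv (a i j) := fun g i j => rfl
  have hinj : Function.Injective M := fun f g h => WithConv.ext (by
    refine AlgHom.ext_of_adjoin_eq_top hgen ?_
    rintro _ ⟨⟨i, j⟩, rfl⟩
    exact congrFun (congrFun h i) j)
  have hunit : ∀ g, IsUnit (M g) := fun g => by
    have h1 := congrArg Matrix.det (Groth.L08.Chevalley.mat_pinv_mul a ha (AlgHom.id k A))
    rw [Matrix.det_mul, Matrix.det_one, mul_comm] at h1
    have hu : IsUnit (Matrix.of a).det := IsUnit.of_mul_eq_one _ h1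
    have e : M g = (Matrix.of a).map g.ofConv := by ext i j; rfl
    rw [Matrix.isUnit_iff_isUnit_det, e]
    have := hu.map g.ofConv
    rwa [AlgHom.map_det] at this
  -- spanning points
  obtain ⟨b, hbS, hspan, hli⟩ := exists_linearIndependent K (Set.range M)
  haveI : Fintype b := hli.setFinite.fintype
  have hb : ∀ x : b, ∃ g, M g = x.1 := fun x => hbS x.2
  choose gs hgs using hb
  -- finite order
  have hord : ∀ g : WithConv (A →ₐ[k] K), IsOfFinOrder g := by
    intro g
    obtain ⟨L, _, _, hL⟩ := exists_finite_sub (k := k) (Set.range fun ij : Fin d × Fin d => M g ij.1 ij.2)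
      (Set.finite_range _)
    let e : Matrix (Fin d) (Fin d) L →+* Matrix (Fin d) (Fin d) K := L.val.toRingHom.mapMatrix
    let g₀ : Matrix (Fin d) (Fin d) L := Matrix.of fun i j => ⟨M g i j, hL ⟨(i, j), rfl⟩⟩
    have he : ∀ i : ℕ, e (g₀ ^ i) = M (g ^ i) := fun i => by
      rw [map_pow, map_pow]; rfl
    obtain ⟨i, j, hij, h⟩ := Finite.exists_ne_map_eq_of_infinite fun i : ℕ => g₀ ^ i
    have h' : g ^ i = g ^ j := hinj (by rw [← he, ← he]; exact congrArg e h)
    rw [isOfFinOrder_iff_pow_eq_one]
    rcases Nat.lt_or_gt_of_ne hij with hl | hl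
    · refine ⟨j - i, Nat.sub_pos_of_lt hl, hinj ((hunit g).pow i |>.mul_left_cancel ?_)⟩
      rw [← map_pow, ← map_mul, ← pow_add, Nat.add_sub_cancel' hl.le, ← h', map_one, _root_.mul_one]
    · refine ⟨i - j, Nat.sub_pos_of_lt hl, hinj ((hunit g).pow j |>.mul_left_cancel ?_)⟩
      rw [← map_pow, ← map_mul, ← pow_add, Nat.add_sub_cancel' hl.le, h', map_one, _root_.mul_one]
  have hsplit : ∀ x : b, ∃ s e : ℕ, 0 < e ∧ ¬ p ∣ e ∧ gs x ^ (p ^ s * e) = 1 := fun x => by
    obtain ⟨N, hN, hN1⟩ := isOfFinOrder_iff_pow_eq_one.1 (hord (gs x))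
    obtain ⟨s, e, he, rfl⟩ := Nat.exists_eq_pow_mul_and_not_dvd hN.ne' p hp.out.ne_one
    exact ⟨s, e, Nat.pos_of_mul_pos_left hN, he, hN1⟩
  choose s e he0 hep he1 using hsplit
  obtain ⟨L, _, _, hL⟩ := exists_finite_sub (k := k)
    (⋃ x : b, Set.range fun ij : Fin d × Fin d => M (gs x) ij.1 ij.2) (Set.finite_iUnion fun _ => Set.finite_range _)
  let m := Module.finrank k L * ∏ x : b, Nat.totient (e x)
  let r := ∑ x : b, s x
  have hm : 0 < m := Nat.mul_pos Module.finrank_pos (Finset.prod_pos fun x _ => Nat.totient_pos.2 (he0 x))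
  refine ⟨r, m, hm, fun g g' hg => hinj ?_⟩
  let Q := Nat.card k ^ m
  have hQ : Q = p ^ (n * m) := by rw [pow_mul, ← hq]
  let φ : K →+* K := iterateFrobenius K p (n * m)
  have hφ : ∀ x, φ x = x ^ Q := fun x => by rw [iterateFrobenius_def, hQ]
  haveI : CharP (Matrix (Fin d) (Fin d) K) p := inferInstance
  -- the spanning points satisfy the equation
  have hbase : ∀ x : b, φ.mapMatrix (x.1 ^ p ^ r) = (x.1 ^ p ^ r) ^ Q := by
    intro x
    have hfix : φ.mapMatrix x.1 = x.1 := by
      ext i j
      rw [RingHom.mapMatrix_apply, Matrix.map_apply, hφ, ← hgs x]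
      exact card_pow_fix L m (dvd_mul_right _ _) _ (hL (Set.mem_iUnion.2 ⟨x, (i, j), rfl⟩))
    have hdvd : p ^ s x * e x ∣ p ^ r * (Q - 1) := by
      refine mul_dvd_mul (pow_dvd_pow _ (Finset.single_le_sum (fun y _ => Nat.zero_le (s y)) (Finset.mem_univ x))) ?_
      obtain ⟨c, hc⟩ : Nat.totient (e x) ∣ n * m :=
        Dvd.dvd.mul_left (Dvd.dvd.mul_left (Finset.dvd_prod_of_mem _ (Finset.mem_univ x)) _) _
      have h1 := (Nat.ModEq.pow_totient ((Nat.Prime.coprime_iff_not_dvd hp.out).2 (hep x))).pow c
      rw [one_pow, ← pow_mul, ← hc, ← hQ] at h1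
      exact (Nat.modEq_iff_dvd' (Nat.one_le_pow _ _ Nat.card_pos)).1 h1.symm
    have h2 : gs x ^ (p ^ r * (Q - 1)) = 1 := by
      obtain ⟨c, hc⟩ := hdvd
      rw [hc, pow_mul, he1, one_pow]
    rw [map_pow, hfix, ← hgs x, ← map_pow, ← map_pow]
    congr 1
    rw [← pow_mul]
    conv_rhs => rw [show Q = Q - 1 + 1 by have := Nat.one_le_pow m (Nat.card k) Nat.card_pos; omega,
      mul_add, mul_one, pow_add, h2, one_mul]
  -- commuting
  have hcomm : ∀ X ∈ Submodule.span K b, ∀ Y ∈ Submodule.span K b, Commute X Y := by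
    intro X hX Y hY
    induction hX using Submodule.span_induction with
    | mem x hx =>
      induction hY using Submodule.span_induction with
      | mem y hy =>
        have h1 : M (gs ⟨x, hx⟩) = x := hgs _
        have h2 : M (gs ⟨y, hy⟩) = y := hgs _
        rw [← h1, ← h2]; exact (Commute.all _ _).map M
      | zero => exact Commute.zero_right _
      | add _ _ _ _ h₁ h₂ => exact h₁.add_right h₂
      | smul c _ _ h => exact h.smul_right c
    | zero => exact Commute.zero_left _
    | add _ _ _ _ h₁ h₂ => exact h₁.add_left h₂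
    | smul c _ _ h => exact h.smul_left c
  have key : ∀ X ∈ Submodule.span K b, φ.mapMatrix (X ^ p ^ r) = (X ^ p ^ r) ^ Q := by
    intro X hX
    induction hX using Submodule.span_induction with
    | mem x hx => exact hbase ⟨x, hx⟩
    | zero => simp [zero_pow hp.out.ne_zero, zero_pow (pow_ne_zero r hp.out.ne_zero),
        zero_pow (show Q ≠ 0 from pow_ne_zero m Nat.card_pos.ne')]
    | add X Y hX hY h₁ h₂ =>
      have hc := hcomm X hX Y hY
      rw [add_pow_char_pow_of_commute (p := p) r hc, map_add, h₁, h₂, hQ,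
        ← add_pow_char_pow_of_commute (p := p) (n * m) ((hc.pow_left _).pow_right _)]
    | smul c X hX h =>
      rw [smul_pow, smul_pow, ← h]
      ext i j
      simp only [RingHom.mapMatrix_apply, Matrix.map_apply, Matrix.smul_apply, smul_eq_mul, hφ, mul_pow]
  have hg' : M g' = φ.mapMatrix (M g) := by
    ext i j
    rw [RingHom.mapMatrix_apply, Matrix.map_apply, hφ, hM, hM, hg]
  rw [map_pow, map_pow, hg', ← map_pow, key (M g) (hspan ▸ Submodule.subset_span ⟨g, rfl⟩), ← pow_mul, mul_comm]

end Groth.L08.SmallNorm
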