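import Groth.Agent.L22.Ideal
import Groth.Agent.L25.LargestMult.Descent
import Mathlib.FieldTheory.Galois.Infinite
import Mathlib.AlgebraicGeometry.Morphisms.FiniteType

/-!
# Galois stable closed subschemes of a base change are defined over the ground field
-/

set_option autoImplicit false
set_option backward.isDefEq.respectTransparency.types false
set_option linter.style.haveILetI false
set_option linter.unusedSectionVars false

universe u

open CategoryTheory CategoryTheory.Limits AlgebraicGeometry TensorProduct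

noncomputable section

namespace Groth.L08.SmallNorm

variable {k K : Type u} [Field k] [Field K] [Algebra k K] {X : Scheme.{u}} (f : X ⟶ Spec (CommRingCat.of k))

local notation "θ" => Spec.map (CommRingCat.ofHom (algebraMap k K))

/-- the action of an automorphism on the base change -/
def gA (σ : K ≃ₐ[k] K) : pullback f θ ⟶ pullback f θ :=
  pullback.lift (pullback.fst f θ) (pullback.snd f θ ≫ Spec.map (CommRingCat.ofHom (σ : K →ₐ[k] K).toRingHom)) (by
    rw [Category.assoc, ← Spec.map_comp, ← CommRingCat.ofHom_comp, AlgHom.toRingHom_eq_coe, AlgHom.comp_algebraMap]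
    exact pullback.condition)

theorem gA_fst (σ : K ≃ₐ[k] K) : gA f σ ≫ pullback.fst f θ = pullback.fst f θ := pullback.lift_fst _ _ _

theorem gA_snd (σ : K ≃ₐ[k] K) :
    gA f σ ≫ pullback.snd f θ = pullback.snd f θ ≫ Spec.map (CommRingCat.ofHom (σ : K →ₐ[k] K).toRingHom) :=
  pullback.lift_snd _ _ _

theorem appLE_trans {W Y Z : Scheme.{u}} (φ : Y ⟶ Z) (π : W ⟶ Y) (π' : W ⟶ Z) (h : π ≫ φ = π')
    (A : Z.Opens) (B : Y.Opens) (C : W.Opens) (e1 : B ≤ φ ⁻¹ᵁ A) (e2 : C ≤ π ⁻¹ᵁ B) (e3 : C ≤ π' ⁻¹ᵁ A)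
    (b : Γ(Z, A)) : (π.appLE B C e2).hom ((φ.appLE A B e1).hom b) = (π'.appLE A C e3).hom b := by
  subst h
  rw [← CommRingCat.comp_apply, Scheme.Hom.appLE_comp_appLE]

/-- stable ideals are generated by their invariants, on an affine piece -/
theorem le_span_of_stable [IsGalois k K] (U : X.Opens) (hU : IsAffineOpen U)
    (J : Ideal Γ(pullback f θ, pullback.fst f θ ⁻¹ᵁ U))
    (hst : ∀ (σ : K ≃ₐ[k] K) (e : pullback.fst f θ ⁻¹ᵁ U ≤ gA f σ ⁻¹ᵁ (pullback.fst f θ ⁻¹ᵁ U)), ∀ s ∈ J,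
      ((gA f σ).appLE _ _ e).hom s ∈ J) :
    J ≤ Ideal.map ((pullback.fst f θ).appLE U (pullback.fst f θ ⁻¹ᵁ U) le_rfl).hom
      (J.comap ((pullback.fst f θ).appLE U (pullback.fst f θ ⁻¹ᵁ U) le_rfl).hom) := by
  haveI : IsAffine U.toScheme := hU
  haveI : IsAffine (⊤ : (Spec (CommRingCat.of k)).Opens).toScheme := isAffineOpen_top _
  haveI : IsAffine (⊤ : (Spec (CommRingCat.of K)).Opens).toScheme := isAffineOpen_top _
  let π := pullback.fst f θ
  let fK := pullback.snd f θ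
  have sq : IsPullback π fK f θ := IsPullback.of_hasPullback _ _
  have hpb := Scheme.Hom.isPullback_resLE sq (US := ⊤) (UX := U) (UT := ⊤) (by simp) (by simp)
    (UY := π ⁻¹ᵁ U) (by simp)
  have hpo : IsPushout (f.appLE ⊤ U (by simp))
      ((θ).appLE ⊤ ⊤ (by simp)) (π.appLE U (π ⁻¹ᵁ U) le_rfl) (fK.appLE ⊤ (π ⁻¹ᵁ U) (by simp)) := by
    refine (isPushout_appTop_of_isPullback hpb).of_iso (Scheme.Opens.topIso ⊤) U.topIso
      (Scheme.Opens.topIso ⊤) (π ⁻¹ᵁ U).topIso ?_ ?_ ?_ ?_ <;>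
    simp only [Scheme.Hom.appTop, Scheme.Hom.resLE_app_top, Category.assoc, Iso.inv_hom_id, Category.comp_id]
  let e₁ := Scheme.ΓSpecIso (CommRingCat.of k)
  let e₂ := Scheme.ΓSpecIso (CommRingCat.of K)
  let a : CommRingCat.of k ⟶ Γ(X, U) := e₁.inv ≫ f.appLE ⊤ U (by simp)
  let β := π.appLE U (π ⁻¹ᵁ U) le_rfl
  let α : CommRingCat.of K ⟶ Γ(pullback f θ, π ⁻¹ᵁ U) := e₂.inv ≫ fK.appLE ⊤ (π ⁻¹ᵁ U) (by simp)
  have hab : a ≫ β = CommRingCat.ofHom (algebraMap k K) ≫ α := by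
    simp only [a, α, β, Category.assoc, hpo.w]
    rw [← Category.assoc, ← Category.assoc]
    congr 1
    rw [show (θ).appLE ⊤ ⊤ (by simp) = (θ).appTop from Scheme.Hom.appLE_eq_app _]
    exact (Scheme.ΓSpecIso_inv_naturality (CommRingCat.ofHom (algebraMap k K))).symm
  letI : Algebra k Γ(X, U) := a.hom.toAlgebra
  letI : Algebra k Γ(pullback f θ, π ⁻¹ᵁ U) := (a ≫ β).hom.toAlgebra
  let αA : K →ₐ[k] Γ(pullback f θ, π ⁻¹ᵁ U) :=
    { α.hom with commutes' := fun r => (congr(($hab).hom r)).symm }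
  let βA : Γ(X, U) →ₐ[k] Γ(pullback f θ, π ⁻¹ᵁ U) := { β.hom with commutes' := fun _ => rfl }
  let Φ := Algebra.TensorProduct.lift αA βA (fun x y => Commute.all _ _)
  have hΦ : ∀ c b, Φ (c ⊗ₜ[k] b) = α.hom c * β.hom b := fun c b => Algebra.TensorProduct.lift_tmul _ _ _ _ _
  have hsurj : ∀ s, ∃ t, Φ t = s := by
    let S : CommRingCat.{u} := CommRingCat.of Φ.range
    let inc : S ⟶ Γ(pullback f θ, π ⁻¹ᵁ U) := CommRingCat.ofHom Φ.range.toSubring.subtype
    let g1 : Γ(X, U) ⟶ S := CommRingCat.ofHom (β.hom.codRestrict Φ.range.toSubring fun b =>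
      ⟨1 ⊗ₜ b, (hΦ _ _).trans (by rw [map_one, one_mul])⟩)
    let g2 : Γ(Spec (CommRingCat.of K), ⊤) ⟶ S := CommRingCat.ofHom
      ((fK.appLE ⊤ (π ⁻¹ᵁ U) (by simp)).hom.codRestrict Φ.range.toSubring fun c =>
        ⟨e₂.hom.hom c ⊗ₜ 1, (hΦ _ _).trans (by
          rw [map_one, mul_one]
          show (fK.appLE ⊤ (π ⁻¹ᵁ U) _).hom (e₂.inv.hom (e₂.hom.hom c)) = _
          rw [show e₂.inv.hom (e₂.hom.hom c) = c from Iso.hom_inv_id_apply e₂ c])⟩)
    let d := hpo.desc g1 g2 (by ext x; exact congr(($hpo.w).hom x))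
    have hd : d ≫ inc = 𝟙 _ := by
      refine hpo.hom_ext ?_ ?_
      · rw [← Category.assoc, hpo.inl_desc, Category.comp_id]; rfl
      · rw [← Category.assoc, hpo.inr_desc, Category.comp_id]; rfl
    intro s
    obtain ⟨t, ht⟩ := (d.hom s).2
    exact ⟨t, ht.trans congr(($hd).hom s)⟩
  let W : Submodule K (K ⊗[k] Γ(X, U)) :=
    { carrier := {t | Φ t ∈ J}
      zero_mem' := by show Φ 0 ∈ J; rw [map_zero]; exact J.zero_mem
      add_mem' := fun {x y} hx hy => by show Φ (x + y) ∈ J; rw [map_add]; exact J.add_mem hx hy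
      smul_mem' := fun c x hx => by
        show Φ (c • x) ∈ J
        rw [Algebra.smul_def, map_mul]
        exact J.mul_mem_left _ hx }
  have hstW : ∀ σ : K ≃ₐ[k] K, ∀ w ∈ W, LinearMap.rTensor Γ(X, U) σ.toLinearMap w ∈ W := by
    intro σ w hw
    have e : π ⁻¹ᵁ U ≤ gA f σ ⁻¹ᵁ (π ⁻¹ᵁ U) := by
      rw [← Scheme.Hom.comp_preimage, gA_fst]
    have key : ∀ t, Φ (LinearMap.rTensor Γ(X, U) σ.toLinearMap t) = ((gA f σ).appLE _ _ e).hom (Φ t) := by
      intro t
      induction t with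
      | zero => simp
      | add x y hx hy => simp only [map_add, hx, hy]
      | tmul c b =>
        rw [LinearMap.rTensor_tmul, hΦ, hΦ, map_mul]
        congr 1
        · show (fK.appLE ⊤ (π ⁻¹ᵁ U) _).hom (e₂.inv.hom (σ c)) =
            ((gA f σ).appLE _ _ e).hom ((fK.appLE ⊤ (π ⁻¹ᵁ U) _).hom (e₂.inv.hom c))
          rw [appLE_trans fK (gA f σ) _ (gA_snd f σ) ⊤ (π ⁻¹ᵁ U) (π ⁻¹ᵁ U) le_top e le_top,
            ← Scheme.Hom.appLE_comp_appLE _ _ ⊤ ⊤ (π ⁻¹ᵁ U) le_top le_top, CommRingCat.comp_apply]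
          congr 1
          rw [show (Spec.map (CommRingCat.ofHom (σ : K →ₐ[k] K).toRingHom)).appLE ⊤ ⊤ le_top =
            (Spec.map (CommRingCat.ofHom (σ : K →ₐ[k] K).toRingHom)).appTop from Scheme.Hom.appLE_eq_app _]
          exact congr(($(Scheme.ΓSpecIso_inv_naturality (CommRingCat.ofHom (σ : K →ₐ[k] K).toRingHom))).hom c)
        · exact (appLE_trans π (gA f σ) π (gA_fst f σ) U (π ⁻¹ᵁ U) (π ⁻¹ᵁ U) le_rfl e le_rfl b).symm
    show Φ _ ∈ J
    rw [key]
    exact hst σ e _ hw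
  have hfix : ∀ x : K, (∀ σ : K ≃ₐ[k] K, σ x = x) → ∃ c : k, algebraMap k K c = x := fun x hx =>
    IntermediateField.mem_bot.1 ((InfiniteGalois.mem_bot_iff_fixed x).2 hx)
  intro s hs
  obtain ⟨t, rfl⟩ := hsurj s
  have ht := Groth.L25.LargestMult.le_baseChange_W₀ W hfix hstW (x := t) hs
  rw [Submodule.baseChange_eq_span] at ht
  clear hs
  induction ht using Submodule.span_induction with
  | zero => rw [map_zero]; exact Ideal.zero_mem _
  | add x y _ _ hx hy =>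
    rw [map_add]
    exact Ideal.add_mem _ hx hy
  | smul c x _ hx =>
    rw [Algebra.smul_def, map_mul]
    exact Ideal.mul_mem_left _ _ hx
  | mem z hz =>
    obtain ⟨b, hb, rfl⟩ := hz
    have hb' : Φ (1 ⊗ₜ[k] b) ∈ J := hb
    rw [hΦ, map_one, one_mul] at hb'
    show Φ (1 ⊗ₜ[k] b) ∈ _
    rw [hΦ, map_one, one_mul]
    exact Ideal.mem_map_of_mem _ hb'

end Groth.L08.SmallNorm
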