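import Groth.Agent.L08.SmallNorm.SmoothPerf
import Groth.Agent.L08.SmallNorm.Frob

/-!
# Arbitrary groups of finite type over a perfect field
-/

set_option autoImplicit false
set_option backward.isDefEq.respectTransparency.types false
set_option linter.style.haveILetI false
set_option linter.unusedSectionVars false

universe u

open CategoryTheory CategoryTheory.Limits MonoidalCategory CartesianMonoidalCategory MonObj AlgebraicGeometry
open Groth.L08.Chev

noncomputable section

namespace Groth.L08.SmallNorm

variable {k : Type u} [Field k]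

/-- the reduced subgroup over a perfect field -/
theorem exists_red_group [PerfectField k] (G : Over (Spec (CommRingCat.of k))) [GrpObj G] [LocallyOfFiniteType G.hom]
    [QuasiCompact G.hom] :
    ∃ (R : Over (Spec (CommRingCat.of k))) (_ : GrpObj R) (r : R ⟶ G), IsMonHom r ∧ IsClosedImmersion r.left ∧
      Surjective r.left ∧ Smooth R.hom ∧ QuasiCompact R.hom := by
  obtain ⟨R, r, _, _, _⟩ := Groth.L08.Rosen.exists_red_cover G
  haveI : Mono r := Over.mono_of_mono_left _
  haveI : IsReduced (R ⊗ R).left := Groth.L08.Rosen.isReduced_tensor R R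
  haveI : IsReduced (𝟙_ (Over (Spec (CommRingCat.of k)))).left := inferInstanceAs (IsReduced (Spec (CommRingCat.of k)))
  obtain ⟨gR, hR⟩ := Groth.L08.exists_grpObj_of_mono r
    (Groth.L08.Rosen.exists_factor_red r η[G])
    (Groth.L08.Rosen.exists_factor_red r ((fst R R ≫ r) * (snd R R ≫ r)))
    (Groth.L08.Rosen.exists_factor_red r r⁻¹)
  haveI : LocallyOfFiniteType R.hom := by rw [← Over.w r]; infer_instance
  haveI : QuasiCompact R.hom := by rw [← Over.w r]; infer_instance
  refine ⟨R, gR, r, hR, inferInstance, inferInstance, ?_, inferInstance⟩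
  letI : GrpObj (Over.mk R.hom) := gR
  exact Groth.L25.GrpDeriv.smooth_of_perfectField R.hom

/-- a high power of the Frobenius factors through a surjective closed immersion -/
theorem exists_frob_lift {p : ℕ} [Fact p.Prime] {R X : Scheme.{u}} [FrobSch.IsCharP X p] [CompactSpace X]
    [IsLocallyNoetherian X] (r : R ⟶ X) [IsClosedImmersion r] [Surjective r] :
    ∃ (n : ℕ) (m : X ⟶ R), m ≫ r = Fr X p n := by
  classical
  let 𝒰 := X.affineCover.finiteSubcover
  let U : 𝒰.I₀ → X.affineOpens := fun i => ⟨(𝒰.f i).opensRange, isAffineOpen_opensRange (𝒰.f i)⟩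
  haveI : ∀ i, IsNoetherianRing Γ(X, (U i).1) := fun i => IsLocallyNoetherian.component_noetherian (U i)
  have hle : r.ker ≤ X.nilradical := by
    rw [← Scheme.IdealSheafData.vanishingIdeal_top, ← Scheme.IdealSheafData.le_support_iff_le_vanishingIdeal]
    intro x _
    exact r.range_subset_ker_support (r.surjective x)
  have hN : ∀ i, ∃ N : ℕ, (r.ker.ideal (U i)) ^ N = ⊥ := fun i => by
    obtain ⟨N, hN⟩ := IsNoetherianRing.isNilpotent_nilradical Γ(X, (U i).1)
    refine ⟨N, le_bot_iff.1 ((Ideal.pow_right_mono ?_ N).trans hN.le)⟩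
    exact hle (U i)
  choose N hN using hN
  obtain ⟨n, hn⟩ : ∃ n : ℕ, ∀ i, N i ≤ p ^ n :=
    ⟨Finset.univ.sup N, fun i => (Finset.le_sup (f := N) (Finset.mem_univ i)).trans
      (Nat.lt_pow_self (Fact.out : p.Prime).one_lt).le⟩
  have hker : r.ker ≤ (Fr X p n).ker := by
    rw [← sup_eq_right]
    refine Scheme.IdealSheafData.ext_of_iSup_eq_top U 𝒰.iSup_opensRange fun i => ?_
    rw [Scheme.IdealSheafData.ideal_sup]
    refine sup_eq_right.2 fun s hs => ?_
    rw [Scheme.Hom.ker_apply, RingHom.mem_ker, Scheme.Hom.app_eq_appLE]
    have h1 : s ^ p ^ n = 0 := by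
      have h := Ideal.pow_le_pow_right (I := r.ker.ideal (U i)) (hn i) (Ideal.pow_mem_pow hs (p ^ n))
      rwa [hN i, Ideal.mem_bot] at h
    have h2 := (Groth.L04.FrobTwist.iter_frob_apply X p n).2 (U i).1 (Fr_preimage X (U i).1).ge s
    rw [h1] at h2
    have h3 := congrArg (X.presheaf.map (homOfLE (Fr_preimage (n := n) (p := p) X (U i).1).le).op).hom h2
    rw [map_zero] at h3
    refine Eq.trans ?_ h3
    show _ = (X.presheaf.map _).hom ((Fr X p n).appLE _ _ _ s)
    rw [← CommRingCat.comp_apply, Scheme.Hom.appLE_map]
  exact ⟨n, IsClosedImmersion.lift r (Fr X p n) hker, IsClosedImmersion.lift_fac _ _ _⟩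

/-- every group of finite type over a perfect field has a map to a proper group with affine kernel -/
theorem hasAff_of_perfect [PerfectField k] (G : Over (Spec (CommRingCat.of k))) [GrpObj G]
    [LocallyOfFiniteType G.hom] [QuasiCompact G.hom] : HasAff G := by
  obtain ⟨q, hq⟩ := ExpChar.exists k
  cases hq with
  | zero =>
    haveI : Smooth G.hom := by
      letI : GrpObj (Over.mk G.hom) := ‹GrpObj G›
      exact Groth.L25.GrpDeriv.smooth_of_charZero G.hom
    exact hasAff_of_smooth G
  | prime hp =>
    haveI : Fact q.Prime := ⟨hp⟩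
    obtain ⟨R, gR, r, _, _, _, _, _⟩ := exists_red_group G
    haveI : Mono r := Over.mono_of_mono_left r
    haveI := isCharP_left (p := q) G
    haveI := isCharP_left (p := q) R
    haveI : CompactSpace G.left := QuasiCompact.compactSpace_of_compactSpace G.hom
    haveI : IsLocallyNoetherian G.left := LocallyOfFiniteType.isLocallyNoetherian G.hom
    obtain ⟨n, m, hm⟩ := exists_frob_lift (p := q) r.left
    let S := Spec (CommRingCat.of k)
    let d : S ⟶ S := Fr S q n
    let e : S ⟶ S := 𝟙 S
    have hde : d ≫ e = Fr S q n := Category.comp_id _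
    have hm' : m ≫ R.hom = (G.hom ≫ d) ≫ e := by
      rw [← Over.w r, reassoc_of% hm, ← frob_cond d e hde G]
    let z : G ⟶ Red.bc d (Red.bc e R) :=
      Over.homMk (pullback.lift (pullback.lift m (G.hom ≫ d) hm') G.hom (pullback.lift_snd _ _ _))
        (pullback.lift_snd _ _ _)
    let F := Over.pullback e ⋙ Over.pullback d
    let r' : Red.bc d (Red.bc e R) ⟶ Red.bc d (Red.bc e G) := (Over.pullback d).map ((Over.pullback e).map r)
    have hz : z ≫ r' = tauApp d e hde G := by
      apply Over.OverMorphism.ext
      apply pullback.hom_ext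
      · apply pullback.hom_ext
        · simp only [z, r', Over.comp_left, Over.pullback_map_left, Category.assoc, Over.homMk_left]
          erw [tauApp_fst d e hde G, pullback.lift_fst_assoc]
          simp only [Category.assoc]
          erw [pullback.lift_fst, pullback.lift_fst_assoc, pullback.lift_fst_assoc]
          exact hm
        · simp only [z, r', Over.comp_left, Over.pullback_map_left, Category.assoc, Over.homMk_left]
          erw [tauApp_fst_snd d e hde G, pullback.lift_fst_assoc]
          simp only [Category.assoc]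
          erw [pullback.lift_snd, pullback.lift_fst_assoc, pullback.lift_snd]
      · exact (Over.w _).trans (Over.w _).symm
    haveI : IsMonHom ((Over.pullback e).map r : Red.bc e R ⟶ Red.bc e G) := inferInstance
    haveI : IsMonHom r' := inferInstance
    haveI : Mono r' := by
      haveI : Mono ((Over.pullback e).map r) := inferInstance
      exact inferInstance
    haveI : IsMonHom z := by
      haveI : IsMonHom (z ≫ r') := by rw [hz]; exact isMonHom_tau d e hde G
      exact isMonHom_of_comp z r'
    haveI : IsAffineHom z.left := by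
      haveI := isAffineHom_tau d e hde G
      haveI : IsAffineHom (z.left ≫ r'.left) := by rw [← Over.comp_left, hz]; infer_instance
      haveI : IsSeparated r'.left := by
        haveI : IsSeparated (Red.bc d (Red.bc e R)).hom := AbelianGrp.isSeparated _
        haveI : IsSeparated (r'.left ≫ (Red.bc d (Red.bc e G)).hom) := by rw [Over.w r']; infer_instance
        exact IsSeparated.of_comp r'.left (Red.bc d (Red.bc e G)).hom
      exact IsAffineHom.of_comp z.left r'.left
    exact HasAff.of_affine_hom z ((hasAff_of_smooth R).bc e |>.bc d)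

end Groth.L08.SmallNorm
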