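import Groth.Agent.L08.SmallNorm.Main
import Groth.Agent.L05.CurveNorm.Scheme

/-!
# Subgroups under purely inseparable extensions
-/

set_option autoImplicit false
set_option backward.isDefEq.respectTransparency.types false
set_option linter.style.haveILetI false
set_option linter.unusedSectionVars false

universe u

open CategoryTheory CategoryTheory.Limits MonoidalCategory CartesianMonoidalCategory MonObj AlgebraicGeometry

noncomputable section

namespace Groth.L08.SmallNorm

theorem isPullback_bc_map' {S S' : Scheme.{u}} (t : S' ⟶ S) {D A : Over S} (d : D ⟶ A) :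
    IsPullback ((Over.pullback t).map d).left (pullback.fst D.hom t) (pullback.fst A.hom t) d.left := by
  let F := Over.pullback t
  have hl : (F.map d).left ≫ pullback.fst A.hom t = pullback.fst D.hom t ≫ d.left := pullback.lift_fst _ _ _
  refine IsPullback.of_bot ?_ hl.symm (IsPullback.of_hasPullback A.hom t) |>.flip
  rw [show d.left ≫ A.hom = D.hom from Over.w d,
    show (F.map d).left ≫ pullback.snd A.hom t = pullback.snd D.hom t from Over.w (F.map d)]
  exact IsPullback.of_hasPullback D.hom t

variable {k K : Type u} [Field k] [Field K] [Algebra k K]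

/-- Frobenius sections are two-sided -/
theorem exists_frob_factor₂ [FiniteDimensional k K] [IsPurelyInseparable k K] (p : ℕ) [Fact p.Prime] [CharP k p]
    [CharP K p] :
    ∃ (n : ℕ) (d : Spec (CommRingCat.of k) ⟶ Spec (CommRingCat.of K)),
      d ≫ Spec.map (CommRingCat.ofHom (algebraMap k K)) = Fr (Spec (CommRingCat.of k)) p n ∧
      Spec.map (CommRingCat.ofHom (algebraMap k K)) ≫ d = Fr (Spec (CommRingCat.of K)) p n := by
  haveI : ExpChar k p := ExpChar.prime Fact.out
  refine ⟨IsPurelyInseparable.exponent k K,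
    Spec.map (CommRingCat.ofHom (IsPurelyInseparable.iterateFrobenius k K p (le_refl _))), ?_, ?_⟩
  · rw [← Spec.map_comp, Fr_spec]
    congr 1
    ext x
    exact (IsPurelyInseparable.iterateFrobenius_algebraMap K p (le_refl _) x).trans (iterateFrobenius_def p _ x).symm
  · haveI : ExpChar K p := ExpChar.prime Fact.out
    rw [← Spec.map_comp, Fr_spec]
    congr 1
    ext x
    exact (IsPurelyInseparable.algebraMap_iterateFrobenius k p (le_refl _) x).trans (iterateFrobenius_def p _ x).symm

/-- the descended subgroup, when the extension is trivial -/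
theorem exists_subgroup_of_isIso {G : Over (Spec (CommRingCat.of k))} [GrpObj G]
    [IsIso (AbVar.ext k K)] {H' : Over (Spec (CommRingCat.of K))} [GrpObj H']
    (h' : H' ⟶ Red.bc (AbVar.ext k K) G) [IsMonHom h'] [IsClosedImmersion h'.left] :
    ∃ (H : Over (Spec (CommRingCat.of k))) (_ : GrpObj H) (h : H ⟶ G), IsMonHom h ∧ IsClosedImmersion h.left ∧
      ∃ g : H' ⟶ Red.bc (AbVar.ext k K) H, g ≫ (Over.pullback (AbVar.ext k K)).map h = h' ∧ Surjective g.left := by
  let e := AbVar.ext k K
  let F := Over.pullback e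
  haveI : IsIso (pullback.fst G.hom e) := inferInstance
  let H : Over (Spec (CommRingCat.of k)) := Over.mk (H'.hom ≫ e)
  let h : H ⟶ G := Over.homMk (h'.left ≫ pullback.fst G.hom e) (by
    show (h'.left ≫ pullback.fst G.hom e) ≫ G.hom = H'.hom ≫ e
    rw [Category.assoc, pullback.condition, ← Category.assoc]
    exact congrArg (· ≫ e) (Over.w h'))
  haveI : IsClosedImmersion h.left := inferInstanceAs (IsClosedImmersion (h'.left ≫ pullback.fst G.hom e))
  haveI : Mono h := Over.mono_of_mono_left h
  let g : H' ⟶ Red.bc e H := Over.homMk (pullback.lift (𝟙 H'.left) H'.hom (Category.id_comp _)) (pullback.lift_snd _ _ _)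
  let f : Red.bc e H ⟶ H' := Over.homMk (pullback.fst H.hom e) (by
    show pullback.fst H.hom e ≫ H'.hom = pullback.snd H.hom e
    rw [← cancel_mono e, Category.assoc]
    exact pullback.condition)
  have hl : (F.map h).left ≫ pullback.fst G.hom e = pullback.fst H.hom e ≫ h'.left ≫ pullback.fst G.hom e :=
    pullback.lift_fst _ _ _
  have hf : f ≫ h' = F.map h := by
    apply Over.OverMorphism.ext
    rw [← cancel_mono (pullback.fst G.hom e)]
    refine Eq.trans ?_ hl.symm
    exact Category.assoc _ _ _
  have hg : g ≫ F.map h = h' := by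
    apply Over.OverMorphism.ext
    rw [← cancel_mono (pullback.fst G.hom e), Over.comp_left, Category.assoc]
    refine (congrArg (g.left ≫ ·) hl).trans ?_
    rw [← Category.assoc]
    exact (congrArg (· ≫ h'.left ≫ pullback.fst G.hom e) (pullback.lift_fst _ _ _)).trans (Category.id_comp _)
  have key : ∀ {T : Over (Spec (CommRingCat.of k))} (m : T ⟶ G) (z : F.obj T ⟶ H'), z ≫ h' = F.map m →
      ∃ z' : T ⟶ H, z' ≫ h = m := fun m z hz =>
    Groth.L08.Albanese.exists_factor_of_bc h m ⟨z ≫ g, by rw [Category.assoc, hg, hz]⟩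
  obtain ⟨gH, hh⟩ := Groth.L08.exists_grpObj_of_mono h
    (key η[G] (1 : F.obj (𝟙_ _) ⟶ H') (by
      rw [show η[G] = (1 : 𝟙_ (Over (Spec (CommRingCat.of k))) ⟶ G) by
        rw [Hom.one_def, toUnit_unique (toUnit (𝟙_ _)) (𝟙 _), Category.id_comp], Functor.map_one, MonObj.one_comp]))
    (key ((fst H H ≫ h) * (snd H H ≫ h)) ((F.map (fst H H) ≫ f) * (F.map (snd H H) ≫ f)) (by
      rw [MonObj.mul_comp, Category.assoc, Category.assoc, hf, Functor.map_mul, F.map_comp, F.map_comp]))
    (key h⁻¹ f⁻¹ (by rw [GrpObj.inv_comp, hf]; exact (map_inv (Functor.homMonoidHom F) h).symm))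
  refine ⟨H, gH, h, hh, inferInstance, g, hg, ⟨fun x => ⟨f.left x, ?_⟩⟩⟩
  haveI : Mono h' := Over.mono_of_mono_left h'
  haveI : IsClosedImmersion (F.map h).left :=
    MorphismProperty.of_isPullback (P := @IsClosedImmersion) (isPullback_bc_map' e h).flip ‹_›
  apply (F.map h).left.isClosedEmbedding.injective
  exact ((congr(($hg).left (f.left x))).trans (congr(($hf).left x)))

theorem range_subset {P X Y : Scheme.{u}} {a : P ⟶ X} {b : X ⟶ Y} (hb : Function.Injective b) {R : Scheme.{u}}
    (r : R ⟶ X) (h : Set.range (a ≫ b) ⊆ Set.range (r ≫ b)) : Set.range a ⊆ Set.range r := by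
  rintro _ ⟨x, rfl⟩
  obtain ⟨y, hy⟩ := h ⟨x, rfl⟩
  exact ⟨y, hb hy⟩

/-- the Frobenius pull-back of a subgroup -/
theorem exists_subgroup_frob [IsPurelyInseparable k K] {p : ℕ} [Fact p.Prime] [CharP k p] [CharP K p] {n : ℕ}
    (d : Spec (CommRingCat.of k) ⟶ Spec (CommRingCat.of K))
    (hde : d ≫ AbVar.ext k K = Fr (Spec (CommRingCat.of k)) p n)
    (hed : AbVar.ext k K ≫ d = Fr (Spec (CommRingCat.of K)) p n)
    {G : Over (Spec (CommRingCat.of k))} [GrpObj G] {H' : Over (Spec (CommRingCat.of K))} [GrpObj H']
    (h' : H' ⟶ Red.bc (AbVar.ext k K) G) [IsMonHom h'] [IsClosedImmersion h'.left] :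
    ∃ (H : Over (Spec (CommRingCat.of k))) (_ : GrpObj H) (h : H ⟶ G), IsMonHom h ∧ IsClosedImmersion h.left ∧
      ∃ g : H' ⟶ Red.bc (AbVar.ext k K) H, g ≫ (Over.pullback (AbVar.ext k K)).map h = h' ∧ Surjective g.left := by
  let e := AbVar.ext k K
  let τ : G ⟶ Red.bc d (Red.bc e G) := tauApp d e hde G
  haveI : IsMonHom τ := isMonHom_tau d e hde G
  let j : Red.bc d H' ⟶ Red.bc d (Red.bc e G) := (Over.pullback d).map h'
  haveI : IsMonHom j := inferInstance
  haveI hjc : IsClosedImmersion j.left :=
    MorphismProperty.of_isPullback (P := @IsClosedImmersion) (isPullback_bc_map' d h').flip ‹_›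
  haveI : Mono j := Over.mono_of_mono_left j
  obtain ⟨gH, hh⟩ := exists_subgroup_pullback τ j
  haveI : IsClosedImmersion (pullback.fst τ j).left :=
    MorphismProperty.of_isPullback (P := @IsClosedImmersion)
      ((IsPullback.of_hasPullback τ j).map (Over.forget _)).flip hjc
  letI : FrobSch.IsCharP H'.left p := isCharP_left H'
  letI : FrobSch.IsCharP G.left p := isCharP_left G
  let a : H'.left ⟶ pullback H'.hom d :=
    pullback.lift (Fr H'.left p n) (H'.hom ≫ e) (by rw [Fr_comp, Category.assoc, hed])
  let w : H' ⟶ Red.bc e (Red.bc d H') :=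
    Over.homMk (pullback.lift a H'.hom (pullback.lift_snd _ _ _)) (pullback.lift_snd _ _ _)
  have hτ1 : τ.left ≫ pullback.fst (Red.bc e G).hom d ≫ pullback.fst G.hom e = Fr G.left p n := tauApp_fst d e hde G
  have hτ2 : τ.left ≫ pullback.fst (Red.bc e G).hom d ≫ pullback.snd G.hom e = G.hom ≫ d :=
    tauApp_fst_snd d e hde G
  have hj : j.left ≫ pullback.fst (Red.bc e G).hom d = pullback.fst H'.hom d ≫ h'.left := pullback.lift_fst _ _ _
  have hjτ : a ≫ j.left = (h'.left ≫ pullback.fst G.hom e) ≫ τ.left := by
    apply pullback.hom_ext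
    · rw [Category.assoc]
      erw [hj]
      rw [← Category.assoc, pullback.lift_fst]
      apply pullback.hom_ext
      · simp only [Category.assoc]
        erw [hτ1, Fr_comp]
        simp only [Category.assoc]
      · simp only [Category.assoc]
        erw [hτ2, Over.w h', Fr_comp, ← hed]
        rw [pullback.condition_assoc, ← Category.assoc]
        exact congrArg (· ≫ e ≫ d) (Over.w h').symm
    · rw [Category.assoc, Category.assoc]
      erw [Over.w j, Over.w τ]
      refine (pullback.lift_snd _ _ _).trans ?_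
      rw [Category.assoc, pullback.condition, ← Category.assoc]
      exact congrArg (· ≫ e) (Over.w h').symm
  have hw : h' ≫ (Over.pullback e).map τ = w ≫ (Over.pullback e).map j := by
    apply Over.OverMorphism.ext
    apply pullback.hom_ext
    · rw [Over.comp_left, Over.comp_left, Category.assoc, Category.assoc]
      erw [pullback.lift_fst, pullback.lift_fst]
      rw [← Category.assoc, ← Category.assoc]
      refine hjτ.symm.trans ?_
      exact congrArg (· ≫ j.left) (pullback.lift_fst _ _ _).symm
    · exact (Over.w _).trans (Over.w _).symm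
  obtain ⟨z, hz, -⟩ := ((IsPullback.of_hasPullback τ j).map (Over.pullback e)).exists_lift h' w hw
  refine ⟨pullback τ j, gH, pullback.fst τ j, hh, inferInstance, z, hz, ⟨fun x => ?_⟩⟩
  let F := Over.pullback e
  haveI : IsClosedImmersion (F.map (pullback.fst τ j)).left :=
    MorphismProperty.of_isPullback (P := @IsClosedImmersion) (isPullback_bc_map' e (pullback.fst τ j)).flip ‹_›
  haveI : UniversallyInjective e := Groth.L05.CurveNorm.universallyInjective_ext k K
  haveI : UniversallyInjective (pullback.fst G.hom e) := MorphismProperty.pullback_fst (P := @UniversallyInjective) _ _ ‹_›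
  have hsub : Set.range (F.map (pullback.fst τ j)).left ⊆ Set.range h'.left := by
    refine range_subset (pullback.fst G.hom e).injective h'.left ?_
    have hl : (F.map (pullback.fst τ j)).left ≫ pullback.fst G.hom e =
        pullback.fst (pullback τ j).hom e ≫ (pullback.fst τ j).left := pullback.lift_fst _ _ _
    rw [hl]
    rintro _ ⟨y, rfl⟩
    let z₀ := pullback.fst (pullback τ j).hom e y
    refine ⟨pullback.fst H'.hom d ((pullback.snd τ j).left z₀), ?_⟩
    have hc := congrArg (fun m : pullback τ j ⟶ Red.bc d (Red.bc e G) => m.left) (pullback.condition (f := τ) (g := j))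
    simp only [Over.comp_left] at hc
    have h3 : (pullback.snd τ j).left ≫ pullback.fst H'.hom d ≫ h'.left ≫ pullback.fst G.hom e =
        (pullback.fst τ j).left ≫ Fr G.left p n := by
      rw [← hτ1, reassoc_of% hc, ← reassoc_of% hj]
    have h4 := congr(($h3) z₀)
    simp only [Scheme.Hom.comp_apply, Fr_base] at h4
    exact h4
  obtain ⟨x', hx'⟩ := hsub ⟨x, rfl⟩
  exact ⟨x', (F.map (pullback.fst τ j)).left.isClosedEmbedding.injective ((congr(($hz).left x')).trans hx')⟩

end Groth.L08.SmallNorm
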