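import Groth.Agent.L08.SmallNorm.Main
import Groth.Agent.L08.SmallNorm.GalStab

/-!
# The smallest subgroup with proper quotient commutes with separable extensions
-/

set_option autoImplicit false
set_option backward.isDefEq.respectTransparency.types false
set_option linter.style.haveILetI false
set_option linter.unusedSectionVars false

universe u

open CategoryTheory CategoryTheory.Limits MonoidalCategory CartesianMonoidalCategory MonObj AlgebraicGeometry
open Groth.L08.Chev

noncomputable section

namespace Groth.L08.SmallNorm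

variable {k K : Type u} [Field k] [Field K] [Algebra k K]

local notation "θ" => Spec.map (CommRingCat.ofHom (algebraMap k K))

/-- stable closed subschemes come from below -/
theorem stable_ideal [IsGalois k K] {X : Scheme.{u}} (f : X ⟶ Spec (CommRingCat.of k))
    (I : (pullback f θ).IdealSheafData) (h : ∀ σ : K ≃ₐ[k] K, I.comap (gA f σ) ≤ I) :
    (I.map (pullback.fst f θ)).comap (pullback.fst f θ) = I := by
  haveI : IsAffineHom (pullback.fst f θ) :=
    MorphismProperty.pullback_fst (P := @IsAffineHom) _ _ (isAffineHom_of_isAffine _)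
  refine le_antisymm (Scheme.IdealSheafData.comap_map_le _ _) ?_
  refine Scheme.IdealSheafData.le_of_iSup_eq_top
    (fun U : X.affineOpens => (⟨_, U.2.preimage (pullback.fst f θ)⟩ : (pullback f θ).affineOpens)) ?_ fun U => ?_
  · show ⨆ U : X.affineOpens, pullback.fst f θ ⁻¹ᵁ U.1 = ⊤
    rw [← Scheme.Hom.preimage_iSup, iSup_affineOpens_eq_top, Scheme.Hom.preimage_top]
  rw [Groth.L22.Ideals.comap_ideal (pullback.fst f θ) _ U ⟨_, U.2.preimage (pullback.fst f θ)⟩ le_rfl]
  refine (le_span_of_stable f U.1 U.2 _ fun σ e s hs => ?_).trans (Ideal.map_mono ?_)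
  · have hm := Ideal.mem_map_of_mem
      ((gA f σ).appLE (pullback.fst f θ ⁻¹ᵁ U.1) (pullback.fst f θ ⁻¹ᵁ U.1) e).hom hs
    rw [← Groth.L22.Ideals.comap_ideal (gA f σ) I ⟨_, U.2.preimage (pullback.fst f θ)⟩
      ⟨_, U.2.preimage (pullback.fst f θ)⟩ e] at hm
    exact h σ _ hm
  · intro a ha
    exact mem_map_ideal (pullback.fst f θ) I U ⟨_, U.2.preimage (pullback.fst f θ)⟩ rfl a ha

theorem isClosedImmersion_of_kernel {G A M : Over (Spec (CommRingCat.of k))} [GrpObj A] (iM : M ⟶ G) (α : G ⟶ A)
    (sq : AlgGrp.IsKernel iM α) : IsClosedImmersion iM.left :=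
  MorphismProperty.of_isPullback (P := @IsClosedImmersion) (sq.map (Over.forget _)).flip
    (AbelianGrp.isClosedImmersion_one A)

/-- the twist of a subgroup killed by all homomorphisms to proper groups -/
theorem comap_gA_le {G : Over (Spec (CommRingCat.of k))} [GrpObj G]
    {M A : Over (Spec (CommRingCat.of K))} [GrpObj A] [IsProper A.hom]
    (iM : M ⟶ Red.bc (AbVar.ext k K) G) (α : Red.bc (AbVar.ext k K) G ⟶ A) [IsMonHom α]
    (sq : AlgGrp.IsKernel iM α)
    (hkill : ∀ (B : Over (Spec (CommRingCat.of K))) [GrpObj B] [IsProper B.hom]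
      (q : Red.bc (AbVar.ext k K) G ⟶ B) [IsMonHom q], iM ≫ q = 1) (σ : K ≃ₐ[k] K) :
    iM.left.ker.comap (gA G.hom σ) ≤ iM.left.ker := by
  let σs := Spec.map (CommRingCat.ofHom (σ : K →ₐ[k] K).toRingHom)
  have hc : σs ≫ AbVar.ext k K = AbVar.ext k K := Groth.L08.ChevPerf.sigma_comp σ
  obtain ⟨ψ, _, _, hψ⟩ := exists_comparison_gen σs (AbVar.ext k K) (AbVar.ext k K) hc G
  let ψi := CategoryTheory.inv ψ
  haveI : IsMonHom ψi := by
    haveI : IsMonHom (ψi ≫ ψ) := by rw [IsIso.inv_hom_id]; infer_instance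
    exact isMonHom_of_comp ψi ψ
  haveI : IsProper (Red.bc σs A).hom := inferInstanceAs (IsProper (pullback.snd A.hom σs))
  haveI : IsMonHom ((Over.pullback σs).map α : Red.bc σs (Red.bc (AbVar.ext k K) G) ⟶ Red.bc σs A) := inferInstance
  let qσ : Red.bc (AbVar.ext k K) G ⟶ Red.bc σs A := ψi ≫ (Over.pullback σs).map α
  haveI : IsMonHom qσ := inferInstance
  obtain ⟨z, hz, -⟩ := (isKernel_bc σs sq).exists_lift (iM ≫ ψi) (toUnit M) (by
    rw [Category.assoc, hkill _ qσ, Hom.one_def])
  have ha : ψi.left ≫ pullback.fst (Red.bc (AbVar.ext k K) G).hom σs = gA G.hom σ := by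
    have hid : ψi.left ≫ ψ.left = 𝟙 _ := by rw [← Over.comp_left, IsIso.inv_hom_id]; rfl
    apply pullback.hom_ext
    · rw [Category.assoc]
      erw [← hψ]
      rw [reassoc_of% hid]
      exact (gA_fst G.hom σ).symm
    · rw [Category.assoc]
      erw [pullback.condition, ← Category.assoc, Over.w ψi]
      exact (gA_snd G.hom σ).symm
  have hl : ((Over.pullback σs).map iM).left ≫ pullback.fst (Red.bc (AbVar.ext k K) G).hom σs =
      pullback.fst M.hom σs ≫ iM.left := pullback.lift_fst _ _ _
  rw [← Scheme.IdealSheafData.le_map_iff_comap_le, Scheme.IdealSheafData.map_ker, ← ha, ← Category.assoc,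
    ← Over.comp_left, ← hz, Over.comp_left, Category.assoc, hl, ← Category.assoc]
  exact Scheme.Hom.le_ker_comp _ _

/-- homomorphisms to proper groups over a Galois extension kill the smallest subgroup -/
theorem kills_bc [IsGalois k K] {G N : Over (Spec (CommRingCat.of k))} [GrpObj G] [LocallyOfFiniteType G.hom]
    [QuasiCompact G.hom] (i : N ⟶ G)
    (hN : ∀ (B : Over (Spec (CommRingCat.of k))) [GrpObj B] [IsProper B.hom] (q : G ⟶ B) [IsMonHom q], i ≫ q = 1)
    (B : Over (Spec (CommRingCat.of K))) [GrpObj B] [IsProper B.hom] (q : Red.bc (AbVar.ext k K) G ⟶ B) [IsMonHom q] :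
    (Over.pullback (AbVar.ext k K)).map i ≫ q = 1 := by
  let t := AbVar.ext k K
  let F := Over.pullback t
  haveI : LocallyOfFiniteType (Red.bc t G).hom := inferInstanceAs (LocallyOfFiniteType (pullback.snd G.hom t))
  haveI : QuasiCompact (Red.bc t G).hom := inferInstanceAs (QuasiCompact (pullback.snd G.hom t))
  obtain ⟨M, gM, iM, A, gA', α, _, _, hMn, _, _, _, _, _, _, sq, hkill⟩ := exists_smallest (Red.bc t G)
  have hst := stable_ideal G.hom iM.left.ker (comap_gA_le iM α sq hkill)
  obtain ⟨L, l, f, g, _, hf, hg⟩ := exists_descend_along t (G' := G) iM (pullback.fst G.hom t) pullback.condition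
    (𝟙 (Red.bc t G)) (Category.id_comp _) hst
    (fun a b h => Over.OverMorphism.ext (pullback.hom_ext h ((Over.w a).trans (Over.w b).symm)))
  rw [Category.comp_id] at hf hg
  obtain ⟨gL, _, hnL⟩ := exists_grp_descend iM hMn l f g hf hg
  haveI : Mono l := Over.mono_of_mono_left l
  haveI : LocallyOfFiniteType L.hom := by rw [← Over.w l]; infer_instance
  obtain ⟨Y, p₀, _, _, _, sqp⟩ := GQuot.exists_quotient_field l
  obtain ⟨Q', q', _, _, _, sqq, hlft, -, hqc, -, -⟩ := GQuot.exists_struct p₀ sqp
  obtain ⟨gQ', _, hker⟩ := GQuot.exists_grp hnL q' sqq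
  haveI := hlft inferInstance
  haveI := hqc inferInstance
  have h1 : iM ≫ F.map q' = 1 := by
    rw [← hg, Category.assoc, ← F.map_comp, hker.w, ← Hom.one_def, Functor.map_one, MonObj.comp_one]
  haveI : Surjective α.left := ‹_›
  haveI : LocallyOfFinitePresentation α.left := by
    haveI : LocallyOfFiniteType A.hom := inferInstance
    exact Groth.L08.ChevPerf.lfp_left α
  obtain ⟨ψ, _, hψ⟩ := Groth.L08.ChevPerf.exists_hom_desc iM α sq (F.map q') h1
  haveI : Surjective (F.map q').left :=
    MorphismProperty.of_isPullback (P := @Surjective) (Groth.L08.Albanese.isPullback_bc_map q').flip ‹_›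
  haveI : Surjective ψ.left := by
    haveI : Surjective (α.left ≫ ψ.left) := by rw [← Over.comp_left, hψ]; infer_instance
    exact Surjective.of_comp α.left ψ.left
  haveI : IsSeparated (Red.bc t Q').hom := AbelianGrp.isSeparated _
  haveI : LocallyOfFiniteType (Red.bc t Q').hom :=
    inferInstanceAs (LocallyOfFiniteType (pullback.snd Q'.hom t))
  have hP : IsProper (Red.bc t Q').hom := Groth.L08.Chev.isProper_of_surjective ψ
  haveI : MorphismProperty.DescendsAlong @IsProper
      (@Surjective ⊓ @Flat ⊓ @QuasiCompact : MorphismProperty Scheme.{u}) := Groth.Agent.S0086.result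
  haveI : IsProper Q'.hom := Groth.L08.ChevPerf.descends (K := K) @IsProper Q' hP
  obtain ⟨z, hz, -⟩ := hker.exists_lift i (toUnit N) (by rw [hN Q' q', Hom.one_def])
  show F.map i ≫ q = 1
  rw [← hz, F.map_comp, ← hf, Category.assoc, Category.assoc, hkill B q, MonObj.comp_one, MonObj.comp_one]

end Groth.L08.SmallNorm
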