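import Groth.Agent.L08.SmallNorm.HasAff
import Groth.Agent.L08.SmallNorm.Disc
import Groth.Agent.L08.ChevPerf.Perfect

/-!
# Smooth groups over a perfect field
-/

set_option autoImplicit false
set_option backward.isDefEq.respectTransparency.types false
set_option linter.style.haveILetI false
set_option linter.unusedSectionVars false

universe u

open CategoryTheory CategoryTheory.Limits MonoidalCategory CartesianMonoidalCategory MonObj AlgebraicGeometry
open Groth.L08.Chev

noncomputable section

namespace Groth.L08.SmallNorm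

variable {k K : Type u} [Field k] [Field K] [Algebra k K]

/-- base change of an identity component -/
theorem idCompData_bc {G G₀ : Over (Spec (CommRingCat.of k))} [GrpObj G] [GrpObj G₀] [Smooth G.hom]
    {j : G₀ ⟶ G} (hj : IdCompData j) : IdCompData ((Over.pullback (AbVar.ext k K)).map j) := by
  haveI := hj.hom
  haveI := hj.closedImm
  haveI := hj.openImm
  haveI := hj.smooth
  haveI := hj.connectedSpace
  haveI : ConnectedSpace (Red.bc (AbVar.ext k K) G₀).left := Groth.L08.ChevPerf.connectedSpace_bc G₀
  let F := Over.pullback (AbVar.ext k K)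
  haveI hc : IsClosedImmersion (F.map j).left :=
    MorphismProperty.of_isPullback (P := @IsClosedImmersion) (Groth.L08.Albanese.isPullback_bc_map j).flip ‹_›
  haveI ho : IsOpenImmersion (F.map j).left :=
    MorphismProperty.of_isPullback (P := @IsOpenImmersion) (Groth.L08.Albanese.isPullback_bc_map j).flip ‹_›
  refine ⟨inferInstance, hc, ho, ?_⟩
  have hone : Groth.L25.Component.one (Red.bc (AbVar.ext k K) G) ∈ Set.range (F.map j).left :=
    ⟨Groth.L25.Component.one (Red.bc (AbVar.ext k K) G₀),
      congr(($(IsMonHom.one_hom (f := F.map j))).left (IsLocalRing.closedPoint K))⟩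
  exact Set.Subset.antisymm
    ((isPreconnected_range (F.map j).left.continuous).subset_connectedComponent hone)
    ((show IsClopen (Set.range (F.map j).left) from ⟨(F.map j).left.isClosedEmbedding.isClosed_range,
      (F.map j).left.isOpenEmbedding.isOpen_range⟩).connectedComponent_subset hone)

theorem lift_conj {X Y Z T : Over (Spec (CommRingCat.of k))} [GrpObj X] (m : Y ⟶ Z) (n : Z ⟶ X) (a : T ⟶ X)
    (b : T ⟶ Y) :
    lift a b ≫ (fst X Y * (snd X Y ≫ m ≫ n) * (fst X Y)⁻¹) = a * (b ≫ m ≫ n) * a⁻¹ := by
  simp only [MonObj.comp_mul, GrpObj.comp_inv, lift_fst, lift_snd_assoc]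

/-- a smooth group over a perfect field has an affine normal subgroup with proper quotient -/
theorem hasAff_of_smooth [PerfectField k] (G : Over (Spec (CommRingCat.of k))) [GrpObj G] [Smooth G.hom]
    [QuasiCompact G.hom] : HasAff G := by
  obtain ⟨G₀, gG₀, j, hj⟩ := exists_idComp G
  haveI := hj.hom
  haveI := hj.closedImm
  haveI := hj.smooth
  haveI := hj.quasiCompact
  haveI := hj.connectedSpace
  obtain ⟨L, gL, l, A, gA, α, _, _, _, _, _, -, _, _, _, _, hker, _, -, -⟩ := Groth.L08.ChevPerf.exists_chevalley G₀
  let K := AlgebraicClosure k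
  let t := AbVar.ext k K
  let F := Over.pullback t
  let FG := Red.bc t G
  haveI : IsMonHom (l ≫ j) := inferInstance
  haveI : IsClosedImmersion (l ≫ j).left := inferInstanceAs (IsClosedImmersion (l.left ≫ j.left))
  haveI : Mono (l ≫ j) := Over.mono_of_mono_left _
  haveI : IsClosedImmersion (F.map l).left :=
    MorphismProperty.of_isPullback (P := @IsClosedImmersion) (Groth.L08.Albanese.isPullback_bc_map l).flip ‹_›
  haveI : Smooth (Red.bc t L).hom := Groth.L08.ChevPerf.smooth_bc L
  haveI : Smooth FG.hom := Groth.L08.ChevPerf.smooth_bc G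
  haveI : QuasiCompact FG.hom := inferInstanceAs (QuasiCompact (pullback.snd G.hom t))
  haveI : ConnectedSpace (Red.bc t L).left := Groth.L08.ChevPerf.connectedSpace_bc L
  haveI : IsAffineHom t := isAffineHom_of_isAffine t
  haveI : IsAffineHom (pullback.fst L.hom t) := MorphismProperty.pullback_fst (P := @IsAffineHom) _ _ ‹_›
  haveI : IsAffine (Red.bc t L).left := isAffine_of_isAffineHom (pullback.fst L.hom t)
  haveI : IsProper (Red.bc t A).hom := inferInstanceAs (IsProper (pullback.snd A.hom t))
  have hjK := idCompData_bc (K := K) hj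
  have hkK := isKernel_bc t hker
  -- normality
  have hnorm : AlgGrp.IsNormalHom (l ≫ j) := by
    have hr := conj_range hjK (F.map l) (F.map α) hkK
    let C := fst G L * (snd G L ≫ l ≫ j) * (fst G L)⁻¹
    have eC : F.map C = lift (F.map (fst G L)) (F.map (snd G L)) ≫
        (fst FG (Red.bc t L) * (snd FG (Red.bc t L) ≫ F.map l ≫ F.map j) * (fst FG (Red.bc t L))⁻¹) := by
      refine Eq.trans ?_ (lift_conj _ _ _ _).symm
      simp only [C, Functor.map_mul, Functor.map_comp]
      congr 1
      exact map_inv (Functor.homMonoidHom F) (fst G L)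
    have hsub : Set.range (F.map C).left ⊆ Set.range (F.map (l ≫ j)).left := by
      rw [eC, Over.comp_left, Scheme.Hom.comp_base, TopCat.coe_comp, Functor.map_comp]
      exact (Set.range_comp_subset_range _ _).trans hr
    haveI : IsReduced (G ⊗ L).left := by
      haveI : Smooth (G ⊗ L).hom := inferInstanceAs (Smooth (pullback.fst G.hom L.hom ≫ G.hom))
      exact Groth.Agent.AV.isReduced_of_smooth_field (G ⊗ L).hom
    have hsub' : Set.range C.left ⊆ Set.range (l ≫ j).left := by
      rw [Groth.L08.ChevPerf.range_bc_map, Groth.L08.ChevPerf.range_bc_map] at hsub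
      haveI : Surjective (AbVar.ext k K) := Groth.L08.ChevPerf.ext_props.1
      haveI : Surjective (pullback.fst G.hom t) := inferInstance
      exact ((pullback.fst G.hom t).surjective.preimage_subset_preimage_iff).1 hsub
    obtain ⟨c, hc⟩ := Groth.L08.ChevPerf.exists_factor_range (l ≫ j) C hsub'
    intro T g n
    refine ⟨lift g n ≫ c, ?_⟩
    rw [Category.assoc, hc]
    simp only [C, MonObj.comp_mul, GrpObj.comp_inv, lift_fst, lift_snd_assoc]
  obtain ⟨Y, p₀, _, _, _, sqp⟩ := GQuot.exists_quotient_field (l ≫ j)
  obtain ⟨Q, q, _, _, _, sqq, hlft, -, hqc, -, -⟩ := GQuot.exists_struct p₀ sqp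
  obtain ⟨gQ, _, hkerQ⟩ := GQuot.exists_grp hnorm q sqq
  haveI := hlft inferInstance
  haveI := hqc inferInstance
  haveI : Surjective (F.map q).left :=
    MorphismProperty.of_isPullback (P := @Surjective) (Groth.L08.Albanese.isPullback_bc_map q).flip ‹_›
  haveI : Flat (F.map q).left :=
    MorphismProperty.of_isPullback (P := @Flat) (Groth.L08.Albanese.isPullback_bc_map q).flip ‹_›
  haveI : LocallyOfFinitePresentation (F.map q).left :=
    MorphismProperty.of_isPullback (P := @LocallyOfFinitePresentation) (Groth.L08.Albanese.isPullback_bc_map q).flip ‹_›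
  haveI : Surjective (F.map α).left :=
    MorphismProperty.of_isPullback (P := @Surjective) (Groth.L08.Albanese.isPullback_bc_map α).flip ‹_›
  haveI : Flat (F.map α).left :=
    MorphismProperty.of_isPullback (P := @Flat) (Groth.L08.Albanese.isPullback_bc_map α).flip ‹_›
  haveI : LocallyOfFinitePresentation (F.map α).left :=
    MorphismProperty.of_isPullback (P := @LocallyOfFinitePresentation) (Groth.L08.Albanese.isPullback_bc_map α).flip ‹_›
  haveI : LocallyOfFiniteType (Red.bc t Q).hom := inferInstanceAs (LocallyOfFiniteType (pullback.snd Q.hom t))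
  haveI : QuasiCompact (Red.bc t Q).hom := inferInstanceAs (QuasiCompact (pullback.snd Q.hom t))
  have hP : IsProper (Red.bc t Q).hom := isProper_quotient hjK (F.map l) (F.map α) hkK (F.map q) (by
    rw [← F.map_comp, ← F.map_comp, ← Category.assoc, hkerQ.w, ← Hom.one_def, Functor.map_one])
  haveI : MorphismProperty.DescendsAlong @IsProper
      (@Surjective ⊓ @Flat ⊓ @QuasiCompact : MorphismProperty Scheme.{u}) := Groth.Agent.S0086.result
  haveI : IsProper Q.hom := Groth.L08.ChevPerf.descends (K := K) @IsProper Q hP
  exact ⟨Q, gQ, q, L, l ≫ j, inferInstance, inferInstance, hkerQ, inferInstance⟩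

end Groth.L08.SmallNorm
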